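import Groth.Agent.FFLib.Basic
import Groth.Agent.CohenLib.GeomRed
import Mathlib.RingTheory.Unramified.Field
import Mathlib.RingTheory.Kaehler.Basic
import Mathlib.FieldTheory.SeparablyGenerated

/-! Separating variables in geometric function fields. -/

set_option autoImplicit false
universe u v

open TensorProduct FunFld Module

namespace Groth.Agent.GeomFFLib

variable {k : Type u} {K : Type v} [Field k] [Field K] [Algebra k K]
variable (hK : IsFunctionField k K) (hg : IsGeometric k K)

include hg in
theorem isGeometricallyReduced : Algebra.IsGeometricallyReduced k K := by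
  classical
  rw [Algebra.isGeometricallyReduced_field_iff]
  refine (isReduced_iff_pow_one_lt 2 one_lt_two).2 fun z hz => ?_
  obtain ⟨s, hs⟩ := TensorProduct.exists_finset z
  let E := IntermediateField.adjoin k ((s.image Prod.fst : Finset (AlgebraicClosure k)) : Set (AlgebraicClosure k))
  have hfin : FiniteDimensional k E :=
    IntermediateField.finiteDimensional_adjoin fun a _ => Algebra.IsIntegral.isIntegral a
  let f : E ⊗[k] K →ₐ[k] AlgebraicClosure k ⊗[k] K := Algebra.TensorProduct.map E.val (AlgHom.id k K)
  have hf : Function.Injective f :=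
    Module.Flat.rTensor_preserves_injective_linearMap _ Subtype.val_injective
  obtain ⟨w, rfl⟩ : z ∈ f.range := by
    rw [hs]
    refine Subalgebra.sum_mem _ fun p hp =>
      ⟨(⟨p.1, IntermediateField.subset_adjoin k _ (Finset.mem_coe.2 (Finset.mem_image_of_mem _ hp))⟩ : E) ⊗ₜ p.2, rfl⟩
  let := (hg E hfin).toField
  have hw : w ^ 2 = 0 := hf (by rw [map_pow, map_zero]; exact hz)
  rw [eq_zero_of_pow_eq_zero hw]
  exact map_zero f

include hK in
theorem essFiniteType : Algebra.EssFiniteType k K := by
  obtain ⟨x, hx, hfin⟩ := hK.1
  have : Algebra.EssFiniteType k (IntermediateField.adjoin k ({x} : Set K)) :=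
    IntermediateField.essFiniteType_iff.2 (IntermediateField.fg_adjoin_of_finite (Set.finite_singleton x))
  exact Algebra.EssFiniteType.comp k (IntermediateField.adjoin k ({x} : Set K)) K

include hK in
theorem finite_adjoin' {x : K} (hx : Transcendental k x) :
    FiniteDimensional (IntermediateField.adjoin k ({x} : Set K)) K :=
  FFLib.finite_adjoin (by exact hK.1) hx

include hK in
theorem not_isAlgebraic : ¬ Algebra.IsAlgebraic k K := fun h =>
  hK.1.choose_spec.1 (h.isAlgebraic _)

include hK in
theorem transcendental_of_sep {x : K} (hs : Algebra.IsSeparable (IntermediateField.adjoin k ({x} : Set K)) K) :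
    Transcendental k x := fun halg => not_isAlgebraic hK (by
  have h1 : Algebra.IsAlgebraic k (IntermediateField.adjoin k ({x} : Set K)) :=
    IntermediateField.isAlgebraic_adjoin fun y hy => by rw [Set.mem_singleton_iff.1 hy]; exact halg.isIntegral
  exact Algebra.IsAlgebraic.trans k (IntermediateField.adjoin k ({x} : Set K)) K)

include hK hg in
theorem exists_separating : ∃ x : K, Algebra.IsSeparable (IntermediateField.adjoin k ({x} : Set K)) K := by
  classical
  have := essFiniteType hK
  have := isGeometricallyReduced hg
  obtain ⟨t, ht, htfin⟩ := hK.1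
  obtain ⟨s, hs, hsep⟩ : ∃ s : Finset K, IsTranscendenceBasis k ((↑) : s → K) ∧
      Algebra.IsSeparable (IntermediateField.adjoin k (s : Set K)) K := by
    obtain _ | ⟨p, hp, hpk⟩ := CharP.exists' k
    · exact exists_isTranscendenceBasis_and_isSeparable_of_perfectField k K
    · have : ExpChar k p := .prime hp.out
      exact exists_isTranscendenceBasis_and_isSeparable_of_linearIndepOn_pow_of_essFiniteType
        p hp.out (CohenLib.linearIndepOn_pow p hp.out)
  have halg : Algebra.IsAlgebraic (Algebra.adjoin k ({t} : Set K)) K := by
    rw [← IntermediateField.isAlgebraic_adjoin_iff_top]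
    exact Algebra.IsAlgebraic.of_finite _ _
  have htr : Algebra.trdeg k K ≤ 1 := by simpa using Algebra.IsAlgebraic.trdeg_le_cardinalMk k ({t} : Set K)
  rw [← hs.cardinalMk_eq_trdeg] at htr
  have hcard : s.card ≤ 1 := by
    rw [Cardinal.mk_coe_finset] at htr
    exact_mod_cast htr
  rcases Finset.card_le_one_iff_subset_singleton.1 hcard with ⟨x, hx⟩
  refine ⟨x, ?_⟩
  rcases Finset.subset_singleton_iff.1 hx with rfl | rfl
  · exfalso
    refine not_isAlgebraic hK ?_
    have h1 : Algebra.IsAlgebraic (IntermediateField.adjoin k ((∅ : Finset K) : Set K)) K := inferInstance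
    rw [Finset.coe_empty, IntermediateField.adjoin_empty] at h1
    exact Algebra.IsAlgebraic.trans k (⊥ : IntermediateField k K) K
  · rwa [Finset.coe_singleton] at hsep

include hK in
theorem D_ne_zero_of_sep {x : K} (hs : Algebra.IsSeparable (IntermediateField.adjoin k ({x} : Set K)) K) :
    KaehlerDifferential.D k K x ≠ 0 ∧ ∀ y, KaehlerDifferential.D k K y ∈ Submodule.span K {KaehlerDifferential.D k K x} := by
  set L := IntermediateField.adjoin k ({x} : Set K)
  have := essFiniteType hK
  have hmem : ∀ a ∈ L, KaehlerDifferential.D k K a ∈ Submodule.span K {KaehlerDifferential.D k K x} := by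
    intro a ha
    induction ha using IntermediateField.adjoin_induction with
    | mem y hy => rw [Set.mem_singleton_iff.1 hy]; exact Submodule.subset_span rfl
    | algebraMap c => rw [Derivation.map_algebraMap]; exact zero_mem _
    | add a b _ _ h h' => rw [map_add]; exact add_mem h h'
    | inv a _ h => rw [Derivation.leibniz_inv]; exact Submodule.smul_mem _ _ h
    | mul a b _ _ h h' => rw [Derivation.leibniz]; exact add_mem (Submodule.smul_mem _ _ h') (Submodule.smul_mem _ _ h)
  have : Algebra.FormallyUnramified L K := Algebra.FormallyUnramified.of_isSeparable L K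
  have hspan : ∀ y, KaehlerDifferential.D k K y ∈ Submodule.span K {KaehlerDifferential.D k K x} := by
    intro y
    have hy : KaehlerDifferential.map k L K K (KaehlerDifferential.D k K y) = 0 := Subsingleton.elim _ _
    have := (KaehlerDifferential.exact_mapBaseChange_map k L K _).1 hy
    obtain ⟨z, hz⟩ := this
    rw [← hz]
    clear hz hy
    induction z using TensorProduct.induction_on with
    | zero => rw [map_zero]; exact zero_mem _
    | add a b ha hb => rw [map_add]; exact add_mem ha hb
    | tmul c w =>
      rw [KaehlerDifferential.mapBaseChange_tmul]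
      refine Submodule.smul_mem _ _ ?_
      induction (KaehlerDifferential.span_range_derivation k L).symm ▸ (Submodule.mem_top (x := w)) using
        Submodule.span_induction with
      | mem w hw =>
        obtain ⟨a, rfl⟩ := hw
        rw [KaehlerDifferential.map_D]
        exact hmem _ a.2
      | zero => rw [map_zero]; exact zero_mem _
      | add a b _ _ ha hb => rw [map_add]; exact add_mem ha hb
      | smul r a _ ha => rw [map_smul, ← algebraMap_smul K r]; exact Submodule.smul_mem _ _ ha
  refine ⟨fun h0 => ?_, hspan⟩
  have : Algebra.FormallyUnramified k K := by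
    refine (Algebra.formallyUnramified_iff k K).2 ⟨fun a b => ?_⟩
    have key : ∀ z : KaehlerDifferential k K, z = 0 := fun z => by
      have hz := (KaehlerDifferential.span_range_derivation k K).symm ▸ (Submodule.mem_top (x := z))
      induction hz using Submodule.span_induction with
      | mem w hw =>
        obtain ⟨a, rfl⟩ := hw
        simpa [h0] using hspan a
      | zero => rfl
      | add a b _ _ ha hb => rw [ha, hb, add_zero]
      | smul r a _ ha => rw [ha, smul_zero]
    rw [key a, key b]
  have := Algebra.FormallyUnramified.isSeparable k K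
  exact not_isAlgebraic hK inferInstance

include hK hg in
theorem finrank_kaehler : Module.finrank K (KaehlerDifferential k K) = 1 := by
  obtain ⟨x, hx⟩ := exists_separating hK hg
  obtain ⟨h1, h2⟩ := D_ne_zero_of_sep hK hx
  refine finrank_eq_one _ h1 fun w => ?_
  have hw : w ∈ Submodule.span K {KaehlerDifferential.D k K x} := by
    have hw' := (KaehlerDifferential.span_range_derivation k K).symm ▸ (Submodule.mem_top (x := w))
    exact Submodule.span_le.2 (Set.range_subset_iff.2 h2) hw'
  exact Submodule.mem_span_singleton.1 hw

include hK hg in
theorem sep_of_D_ne_zero {x : K} (hx : KaehlerDifferential.D k K x ≠ 0) :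
    Algebra.IsSeparable (IntermediateField.adjoin k ({x} : Set K)) K := by
  set L := IntermediateField.adjoin k ({x} : Set K)
  have := essFiniteType hK
  have : Algebra.EssFiniteType L K := Algebra.EssFiniteType.of_comp k L K
  have : Algebra.FormallyUnramified L K := by
    refine (Algebra.formallyUnramified_iff L K).2 ?_
    refine ⟨fun a b => ?_⟩
    have key : ∀ z, z = (0 : KaehlerDifferential L K) := by
      intro z
      obtain ⟨w, rfl⟩ := KaehlerDifferential.map_surjective k L K z
      obtain ⟨c, rfl⟩ := (finrank_eq_one_iff_of_nonzero' _ hx).1 (finrank_kaehler hK hg) w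
      have hDx : KaehlerDifferential.map k L K K (KaehlerDifferential.D k K x) = 0 := by
        rw [KaehlerDifferential.map_D]
        exact (KaehlerDifferential.D L K).map_algebraMap (⟨x, IntermediateField.mem_adjoin_simple_self k x⟩ : L)
      rw [map_smul, hDx, smul_zero]
    rw [key a, key b]
  exact Algebra.FormallyUnramified.isSeparable L K

end Groth.Agent.GeomFFLib
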