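import Groth.Agent.FFLib.Degree
import Groth.Agent.FFLib.Spaces
import Groth.Agent.GeomFFLib.Basic
import Mathlib.RingTheory.Polynomial.Resultant.Basic
import Mathlib.FieldTheory.Minpoly.IsIntegrallyClosed
import Mathlib.FieldTheory.PrimitiveElement
import Mathlib.Algebra.Squarefree.Basic
import Mathlib.RingTheory.Polynomial.UniqueFactorization
import Mathlib.FieldTheory.SeparableDegree

/-! Places with separable residue field over rational values of a separating variable. -/

set_option autoImplicit false
universe u v

open FunFld Module Polynomial WithZero Groth.Agent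

namespace Groth.Agent.GeomFFLib

variable {k : Type u} {K : Type v} [Field k] [Field K] [Algebra k K]

theorem isAlgebraic_residue (hK : FFLib.FG1 k K) (P : Place k K) :
    Algebra.IsAlgebraic k (IsLocalRing.ResidueField P.O) := by
  have hfd := FFLib.finiteDimensional_residue hK P
  let : Module k (IsLocalRing.ResidueField P.O) := Algebra.toModule
  have : Module.Finite k (IsLocalRing.ResidueField P.O) := by
    convert hfd
    exact Module.ext' _ _ fun c x => by
      obtain ⟨y, rfl⟩ := IsLocalRing.residue_surjective x
      exact Algebra.smul_def c (IsLocalRing.residue P.O y)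
  exact Algebra.IsAlgebraic.of_finite k _

theorem residue_module_eq (P : Place k K) :
    (Algebra.toModule : Module k (IsLocalRing.ResidueField P.O)) = IsLocalRing.instModuleResidueFieldOfAlgebra P.O :=
  Module.ext' _ _ fun c x => by
    obtain ⟨y, rfl⟩ := IsLocalRing.residue_surjective x
    exact Algebra.smul_def c (IsLocalRing.residue P.O y)

theorem finite_residue (hK : FFLib.FG1 k K) (P : Place k K) :
    @Module.Finite k (IsLocalRing.ResidueField P.O) _ _ Algebra.toModule := by
  rw [residue_module_eq P]
  exact FFLib.finiteDimensional_residue hK P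

theorem finrank_residue (P : Place k K) :
    @Module.finrank k (IsLocalRing.ResidueField P.O) _ _ Algebra.toModule = P.deg := by
  rw [residue_module_eq P]
  rfl

theorem finrank_residue_le (P : Place k K) :
    @Module.finrank k (IsLocalRing.ResidueField P.O) _ _ Algebra.toModule ≤ P.deg := (finrank_residue P).le

attribute [local instance 10000] Algebra.toModule

variable (hK : FFLib.FG1 k K) {x : K} (hxt : Transcendental k x)

include hK hxt in
theorem infinite_separable_of_sep [Infinite k]
    (hsep : Algebra.IsSeparable (IntermediateField.adjoin k ({x} : Set K)) K) :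
    {P : Place k K | Algebra.IsSeparable k (IsLocalRing.ResidueField P.O)}.Infinite := by
  classical
  set F := IntermediateField.adjoin k ({x} : Set K) with hF
  have hfin : FiniteDimensional F K := FFLib.finite_adjoin hK hxt
  let : Algebra k[X] K := (Polynomial.aeval x : k[X] →ₐ[k] K).toAlgebra
  have hinjX : Function.Injective (algebraMap k[X] K) := transcendental_iff_injective.1 hxt
  have : FaithfulSMul k[X] K := (faithfulSMul_iff_algebraMap_injective _ _).2 hinjX
  let φ : k[X] →+* F := ((Polynomial.aeval x : k[X] →ₐ[k] K).toRingHom).codRestrict F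
    fun p => IntermediateField.algebra_adjoin_le_adjoin k _ (Polynomial.aeval_mem_adjoin_singleton k x)
  let : Algebra k[X] F := φ.toAlgebra
  have : IsScalarTower k[X] F K := IsScalarTower.of_algebraMap_eq fun p => rfl
  have : IsFractionRing k[X] F := by
    have hinjF : Function.Injective (algebraMap k[X] F) := fun a b h => hinjX (congrArg Subtype.val h)
    have : FaithfulSMul k[X] F := (faithfulSMul_iff_algebraMap_injective _ _).2 hinjF
    refine IsFractionRing.of_field k[X] F fun z => ?_
    obtain ⟨p, q, hpq⟩ := (IntermediateField.mem_adjoin_simple_iff k (z : K)).1 z.2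
    exact ⟨p, q, Subtype.ext hpq⟩
  -- an integral primitive element
  obtain ⟨y₀, hy₀⟩ := Field.exists_primitive_element F K
  obtain ⟨d, hd0, hint⟩ : ∃ d : k[X], d ≠ 0 ∧ IsIntegral k[X] (d • y₀) := by
    have halg : IsAlgebraic k[X] y₀ :=
      (IsFractionRing.isAlgebraic_iff k[X] F K).2 (Algebra.IsAlgebraic.isAlgebraic y₀)
    obtain ⟨d, hd0, hd⟩ := halg.exists_integral_multiple
    exact ⟨d, hd0, hd⟩
  set y := d • y₀ with hydef
  have hytop : IntermediateField.adjoin F ({y} : Set K) = ⊤ := by
    rw [eq_top_iff, ← hy₀, IntermediateField.adjoin_simple_le_iff]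
    have h1 : y ∈ IntermediateField.adjoin F ({y} : Set K) := IntermediateField.mem_adjoin_simple_self F y
    have h2 : algebraMap k[X] K d ∈ IntermediateField.adjoin F ({y} : Set K) := by
      rw [IsScalarTower.algebraMap_apply k[X] F K]; exact IntermediateField.algebraMap_mem _ _
    have h3 := mul_mem (inv_mem h2) h1
    rwa [hydef, Algebra.smul_def, ← mul_assoc, inv_mul_cancel₀ ((map_ne_zero_iff _ hinjX).2 hd0), one_mul] at h3
  set G := minpoly k[X] y with hG
  have hGm : G.Monic := minpoly.monic hint
  have hGF : minpoly F y = G.map (algebraMap k[X] F) := minpoly.isIntegrallyClosed_eq_field_fractions F K hint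
  set n := finrank F K with hn
  have hnpos : 0 < n := finrank_pos
  have hGdeg : G.natDegree = n := by
    have h1 := IntermediateField.adjoin.finrank (hint.tower_top (A := F))
    rw [hytop, IntermediateField.finrank_top', hGF, hGm.natDegree_map] at h1
    exact h1.symm
  set D := G.resultant G.derivative with hD
  have hD0 : D ≠ 0 := by
    intro h0
    have hsepy : (minpoly F y).Separable := Algebra.IsSeparable.isSeparable F y
    rw [hGF] at hsepy
    obtain ⟨p, q, -, -, hpq⟩ := exists_mul_add_mul_eq_C_resultant G G.derivative le_rfl le_rfl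
      (Or.inl (by rw [hGdeg]; exact hnpos.ne'))
    have h2 : resultant (G.map (algebraMap k[X] F)) (G.map (algebraMap k[X] F)).derivative G.natDegree
        G.derivative.natDegree = 0 := by
      rw [derivative_map, resultant_map_map, ← hD, h0, map_zero]
    have hdd : (G.map (algebraMap k[X] F)).derivative.natDegree = G.derivative.natDegree := by
      rw [derivative_map]; exact natDegree_map_eq_of_injective (FaithfulSMul.algebraMap_injective _ _) _
    have h3 : resultant (G.map (algebraMap k[X] F)) (G.map (algebraMap k[X] F)).derivative = 0 := by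
      rw [hGm.natDegree_map, hdd]; exact h2
    exact (resultant_eq_zero_iff.1 h3).2 hsepy
  obtain ⟨a, b, -, -, hab⟩ := exists_mul_add_mul_eq_C_resultant G G.derivative le_rfl le_rfl
    (Or.inl (by rw [hGdeg]; exact hnpos.ne'))
  -- a place for each good rational value
  have key : ∀ c : k, D.eval c ≠ 0 → ∃ P : Place k K, P.1 (x - algebraMap k K c) < 1 ∧
      Algebra.IsSeparable k (IsLocalRing.ResidueField P.O) := by
    intro c hc
    set e := Polynomial.evalRingHom c
    set g := G.map e with hg
    have hgm : g.Monic := hGm.map e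
    have hgdeg : g.natDegree = n := by rw [hg, hGm.natDegree_map, hGdeg]
    have hgsep : g.Separable := by
      refine ⟨C (D.eval c)⁻¹ * a.map e, C (D.eval c)⁻¹ * b.map e, ?_⟩
      have h1 := congrArg (Polynomial.map e) hab
      rw [Polynomial.map_add, Polynomial.map_mul, Polynomial.map_mul, map_C, ← derivative_map] at h1
      have h2 : a.map e * g + b.map e * g.derivative = C (D.eval c) := by
        rw [hg, ← show e D = D.eval c from rfl]; linear_combination h1
      rw [mul_assoc, mul_assoc, ← mul_add, h2, ← map_mul, inv_mul_cancel₀ hc, map_one]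
    set s := (UniqueFactorizationMonoid.normalizedFactors g) with hs
    have hnd : s.Nodup := (UniqueFactorizationMonoid.squarefree_iff_nodup_normalizedFactors hgm.ne_zero).1 hgsep.squarefree
    have hmon : ∀ h ∈ s, h.Monic := fun h hh =>
      ((Polynomial.mem_normalizedFactors_iff hgm.ne_zero).1 hh).2.1
    have hprod : s.prod = g := by
      have h1 := UniqueFactorizationMonoid.prod_normalizedFactors hgm.ne_zero
      refine eq_of_monic_of_associated (by simpa using monic_multiset_prod_of_monic s id hmon) hgm h1
    have hirr : ∀ h ∈ s, Irreducible h := fun h hh => UniqueFactorizationMonoid.irreducible_of_normalized_factor h hh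
    let ev : k[X][X] →+* K := (Polynomial.aeval y : k[X][X] →ₐ[k[X]] K).toRingHom
    set u := x - algebraMap k K c with hu
    have hevX : ev (C (X - C c)) = u := by
      show Polynomial.aeval y (C (X - C c)) = u
      rw [aeval_C]
      show Polynomial.aeval x (X - C c) = u
      rw [map_sub, aeval_X, aeval_C]
    have hu0 : u ≠ 0 := fun h => hxt (by rw [sub_eq_zero.1 h]; exact isAlgebraic_algebraMap c)
    have hutr : Transcendental k u := fun h => hxt (by simpa [hu] using h.add (isAlgebraic_algebraMap (A := K) c))
    have hP : ∀ h ∈ s, ∃ P : Place k K, P.1 u < 1 ∧ P.1 y ≤ 1 ∧ P.1 (Polynomial.aeval y h) < 1 := by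
      intro h hh
      let A : Subring K := ev.range
      have hAk : ∀ t : k, algebraMap k K t ∈ A := fun t => ⟨C (C t), by
        show Polynomial.aeval y (C (C t)) = _
        rw [aeval_C]; exact Polynomial.aeval_C x t⟩
      have huA : u ∈ A := ⟨_, hevX⟩
      have hhy : ev (h.map C) = Polynomial.aeval y h := by
        show Polynomial.aeval y (h.map C) = _
        rw [Polynomial.aeval_def, Polynomial.eval₂_map, Polynomial.aeval_def]
        congr 1
        exact RingHom.ext fun t => Polynomial.aeval_C x t
      let I : Ideal A := Ideal.span {⟨u, huA⟩, ⟨Polynomial.aeval y h, ⟨_, hhy⟩⟩}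
      have hI : I ≠ ⊤ := by
        intro htop
        have h1 : (1 : A) ∈ I := htop ▸ Submodule.mem_top
        obtain ⟨⟨_, P₁, rfl⟩, ⟨_, Q₁, rfl⟩, h2⟩ := Ideal.mem_span_pair.1 h1
        have h3 : ev (P₁ * C (X - C c) + Q₁ * h.map C - 1) = 0 := by
          rw [map_sub, map_add, map_mul, map_mul, map_one, hevX, hhy, sub_eq_zero]
          exact congrArg Subtype.val h2
        have h4 : G ∣ P₁ * C (X - C c) + Q₁ * h.map C - 1 := (minpoly.isIntegrallyClosed_dvd_iff hint _).1 h3
        have h5 := Polynomial.map_dvd e h4
        have hmapC : (h.map C).map e = h := by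
          rw [Polynomial.map_map, show e.comp C = RingHom.id k from RingHom.ext fun t => eval_C, Polynomial.map_id]
        rw [Polynomial.map_sub, Polynomial.map_add, Polynomial.map_mul, Polynomial.map_mul, Polynomial.map_one, map_C,
          hmapC, show e (X - C c) = 0 by simp [e], C_0, mul_zero, zero_add] at h5
        have h6 : h ∣ g := hprod ▸ Multiset.dvd_prod hh
        have h7 : h ∣ (1 : k[X]) := by
          have h8 := dvd_sub (dvd_mul_left h (Q₁.map e)) (h6.trans h5)
          rwa [sub_sub_cancel] at h8
        exact (hirr h hh).not_isUnit (isUnit_of_dvd_one h7)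
      have hI0 : I ≠ ⊥ := fun hb => by
        have hmem : (⟨u, huA⟩ : A) ∈ I := Ideal.subset_span (Set.mem_insert _ _)
        rw [hb, Ideal.mem_bot] at hmem
        exact hu0 (congrArg Subtype.val hmem)
      obtain ⟨P, hP1, hP2⟩ := FFLib.exists_place_of_ideal hK A hAk I hI hI0
      exact ⟨P, hP2 ⟨u, huA⟩ (Ideal.subset_span (Set.mem_insert _ _)),
        hP1 y ⟨X, Polynomial.aeval_X y⟩, hP2 _ (Ideal.subset_span (Set.mem_insert_of_mem _ rfl))⟩
    have : Nonempty (Place k K) := ⟨(FFLib.exists_zero_of_tr hK hxt).choose⟩
    choose! Pl hPu hPy hPh using hP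
    have hlt : ∀ (P : Place k K) (z : P.O), IsLocalRing.residue P.O z = 0 ↔ P.1 (z : K) < 1 := fun P z => by
      rw [IsLocalRing.residue_eq_zero_iff, IsLocalRing.mem_maximalIdeal, mem_nonunits_iff]
      exact ⟨fun h1 => lt_of_le_of_ne z.2 fun e' => h1 ((Valuation.integer.integers P.1).isUnit_iff_valuation_eq_one.2 e'),
        fun h1 hu => h1.ne ((Valuation.integer.integers P.1).isUnit_iff_valuation_eq_one.1 hu)⟩
    have hres : ∀ h (hh : h ∈ s),
        Polynomial.aeval (IsLocalRing.residue (Pl h).O ⟨y, hPy h hh⟩) h = 0 := fun h hh => by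
      have h1 : IsLocalRing.residue (Pl h).O (Polynomial.aeval (⟨y, hPy h hh⟩ : (Pl h).O) h) = 0 := by
        rw [hlt]
        have h2 : ((Polynomial.aeval (⟨y, hPy h hh⟩ : (Pl h).O) h : (Pl h).O) : K) = Polynomial.aeval y h := by
          show (Pl h).O.subtype _ = _
          rw [Polynomial.aeval_def, Polynomial.hom_eval₂]
          rfl
        rw [h2]; exact hPh h hh
      rw [← h1, Polynomial.aeval_def, Polynomial.aeval_def, Polynomial.hom_eval₂]
      rfl
    have hdist : Set.InjOn Pl {h | h ∈ s} := by
      intro h hh h' hh' heq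
      by_contra hne
      have hcop : IsCoprime h h' := (hirr h hh).coprime_iff_not_dvd.2 fun hd =>
        hne (eq_of_monic_of_associated (hmon h hh) (hmon h' hh') ((hirr h hh).associated_of_dvd (hirr h' hh') hd))
      obtain ⟨p, q, hpq⟩ := hcop
      have h1 := congrArg (Polynomial.aeval (IsLocalRing.residue (Pl h).O ⟨y, hPy h hh⟩)) hpq
      have h2 : Polynomial.aeval (IsLocalRing.residue (Pl h).O ⟨y, hPy h hh⟩) h' = 0 := by
        have h3 := hres h' hh'
        revert h3
        generalize hy' : hPy h' hh' = hp
        clear hy'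
        revert hp
        rw [← heq]
        exact fun _ h3 => h3
      rw [map_add, map_mul, map_mul, hres h hh, h2, mul_zero, mul_zero, add_zero, map_one] at h1
      exact zero_ne_one h1
    have hdeg : ∀ h ∈ s, h.natDegree ≤ (Pl h).deg := fun h hh => by
      have := isAlgebraic_residue hK (Pl h)
      have hfd := FFLib.finiteDimensional_residue hK (Pl h)
      set z := IsLocalRing.residue (Pl h).O ⟨y, hPy h hh⟩
      have hmin : minpoly k z = h := (minpoly.eq_of_irreducible_of_monic (hirr h hh) (hres h hh) (hmon h hh)).symm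
      rw [show h.natDegree = (minpoly k z).natDegree by rw [hmin]]
      have := GeomFFLib.finite_residue hK (Pl h)
      exact (minpoly.natDegree_le z).trans (GeomFFLib.finrank_residue_le (Pl h))
    -- zeros of `u` have total degree `n`
    have hadj : IntermediateField.adjoin k ({u⁻¹} : Set K) = F := by
      refine le_antisymm (IntermediateField.adjoin_simple_le_iff.2 (inv_mem (sub_mem
        (IntermediateField.mem_adjoin_simple_self k x) (IntermediateField.algebraMap_mem _ c))))
        (IntermediateField.adjoin_simple_le_iff.2 ?_)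
      have h1 : u⁻¹⁻¹ + algebraMap k K c ∈ IntermediateField.adjoin k ({u⁻¹} : Set K) :=
        add_mem (inv_mem (IntermediateField.mem_adjoin_simple_self k _)) (IntermediateField.algebraMap_mem _ c)
      rwa [inv_inv, hu, sub_add_cancel] at h1
    have hpole : (FFLib.pole (k := k) u⁻¹).deg = n := by
      rw [FFLib.deg_pole hK (fun h => hutr (by simpa using h.inv)), hadj]
    have hle : (∑ h ∈ s.toFinset, Finsupp.single (Pl h) (1 : ℤ)) ≤ FFLib.pole (k := k) u⁻¹ := by
      intro P
      rw [Finsupp.finsetSum_apply, FFLib.pole_apply hK]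
      by_cases hP : ∃ h ∈ s, Pl h = P
      · obtain ⟨h, hh, rfl⟩ := hP
        rw [Finset.sum_eq_single h (fun h' hh' hne => Finsupp.single_eq_of_ne fun e' =>
          hne (hdist (Multiset.mem_toFinset.1 hh') hh e'.symm)) (fun hn' => absurd (Multiset.mem_toFinset.2 hh) hn'),
          Finsupp.single_eq_same, FFLib.ord_inv, neg_neg]
        have := (FFLib.v_lt_one_iff (Pl h) hu0).1 (hPu h hh)
        omega
      · rw [Finset.sum_eq_zero fun h hh => Finsupp.single_eq_of_ne fun e' =>
          hP ⟨h, Multiset.mem_toFinset.1 hh, e'.symm⟩]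
        exact le_max_right _ _
    have hsum : ∑ h ∈ s.toFinset, ((Pl h).deg : ℤ) ≤ n := by
      refine le_trans (le_of_eq ?_) ((FFLib.deg_mono hle).trans_eq hpole)
      rw [show Divisor.deg (∑ h ∈ s.toFinset, Finsupp.single (Pl h) (1 : ℤ)) =
        ∑ h ∈ s.toFinset, Divisor.deg (Finsupp.single (Pl h) (1 : ℤ)) from map_sum FFLib.degHom _ _]
      simp [FFLib.deg_single]
    have hdegsum : ∑ h ∈ s.toFinset, h.natDegree = n := by
      rw [← hgdeg, ← hprod, natDegree_multiset_prod_of_monic s hmon, Finset.sum_eq_multiset_sum,
        Multiset.toFinset_val, Multiset.dedup_eq_self.2 hnd]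
    obtain ⟨h, hh⟩ : ∃ h, h ∈ s := by
      by_contra hempty
      push Not at hempty
      rw [Multiset.eq_zero_of_forall_notMem hempty, Multiset.prod_zero] at hprod
      rw [← hprod, natDegree_one] at hgdeg
      omega
    have heq : (Pl h).deg = h.natDegree := by
      refine le_antisymm ?_ (hdeg h hh)
      by_contra hlt'
      have : ∑ h ∈ s.toFinset, h.natDegree < ∑ h ∈ s.toFinset, (Pl h).deg :=
        Finset.sum_lt_sum (fun i hi => hdeg i (Multiset.mem_toFinset.1 hi))
          ⟨h, Multiset.mem_toFinset.2 hh, not_le.1 hlt'⟩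
      have h9 : ((∑ h ∈ s.toFinset, (Pl h).deg : ℕ) : ℤ) ≤ n := by push_cast; exact hsum
      omega
    refine ⟨Pl h, hPu h hh, ?_⟩
    set z := IsLocalRing.residue (Pl h).O ⟨y, hPy h hh⟩
    have := isAlgebraic_residue hK (Pl h)
    have := GeomFFLib.finite_residue hK (Pl h)
    have hzint : IsIntegral k z := (Algebra.IsAlgebraic.isAlgebraic z).isIntegral
    have hmin : minpoly k z = h := (minpoly.eq_of_irreducible_of_monic (hirr h hh) (hres h hh) (hmon h hh)).symm
    have hztop : IntermediateField.adjoin k ({z} : Set (IsLocalRing.ResidueField (Pl h).O)) = ⊤ := by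
      refine IntermediateField.eq_of_le_of_finrank_le le_top ?_
      rw [IntermediateField.finrank_top', IntermediateField.adjoin.finrank hzint, hmin, ← heq]
      exact (GeomFFLib.finrank_residue (Pl h)).le
    have hzsep : IsSeparable k z := by
      show (minpoly k z).Separable
      rw [hmin]; exact hgsep.of_dvd (hprod ▸ Multiset.dvd_prod hh)
    have hs' := IntermediateField.isSeparable_adjoin_simple_iff_isSeparable k _ |>.2 hzsep
    rw [hztop] at hs'
    exact AlgEquiv.Algebra.isSeparable IntermediateField.topEquiv
  intro hfinset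
  have hgood : {c : k | D.eval c ≠ 0}.Infinite := by
    refine (Polynomial.finite_setOfPred_isRoot hD0).infinite_compl.mono fun c hc => hc
  choose Q hQ hQsep using key
  refine hgood ((hfinset.biUnion (t := fun P => {c : k | P.1 (x - algebraMap k K c) < 1}) fun P _ => ?_).subset
    fun c hc => Set.mem_biUnion (hQsep c hc) (hQ c hc))
  refine Set.Subsingleton.finite fun c₁ h₁ c₂ h₂ => ?_
  by_contra hne
  have h := (P.1.map_sub _ _).trans_lt (max_lt h₁ h₂)
  rw [sub_sub_sub_cancel_left, ← map_sub] at h
  have h2 := P.2.1 (c₂ - c₁)⁻¹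
  rw [map_inv₀, map_inv₀] at h2
  exact absurd h2 (not_le.2 ((one_lt_inv₀ (zero_lt_iff.2 ((Valuation.ne_zero_iff _).2
    ((map_ne_zero (algebraMap k K)).2 (sub_ne_zero.2 (Ne.symm hne)))))).2 h))

end Groth.Agent.GeomFFLib
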