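import Groth.Agent.FFLib.Ext
import Groth.Agent.GeomFFLib.SepPlaces
import Mathlib.RingTheory.TensorProduct.Free
import Mathlib.FieldTheory.IsAlgClosed.Basic

/-! Function fields after an algebraic, possibly infinite, extension of the constants. -/

set_option autoImplicit false
universe u v w x

open TensorProduct FunFld Module WithZero Groth.Agent Groth.Agent.FFLib

namespace Groth.Agent.GeomFFLib

attribute [local instance 10000] Algebra.toModule

/-- The base change of a geometric field by an algebraic extension is a field. -/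
theorem isField_tensor_of_algebraic {k : Type u} {K : Type v} [Field k] [Field K] [Algebra k K]
    (hg : IsGeometric k K) (L : Type u) [Field L] [Algebra k L] [Algebra.IsAlgebraic k L] :
    IsField (L ⊗[k] K) := by
  classical
  have : Nontrivial (L ⊗[k] K) :=
    (Algebra.TensorProduct.includeLeft_injective (S := k) (A := L) (algebraMap k K).injective).nontrivial
  refine ⟨exists_pair_ne _, mul_comm, fun {z} hz => ?_⟩
  obtain ⟨s, hs⟩ := TensorProduct.exists_finset z
  let E := IntermediateField.adjoin k ((s.image Prod.fst : Finset L) : Set L)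
  have hfin : FiniteDimensional k E :=
    IntermediateField.finiteDimensional_adjoin fun a _ => Algebra.IsIntegral.isIntegral a
  let f : E ⊗[k] K →ₐ[k] L ⊗[k] K := Algebra.TensorProduct.map E.val (AlgHom.id k K)
  obtain ⟨w, rfl⟩ : z ∈ f.range := by
    rw [hs]
    refine Subalgebra.sum_mem _ fun p hp =>
      ⟨(⟨p.1, IntermediateField.subset_adjoin k _ (Finset.mem_coe.2 (Finset.mem_image_of_mem _ hp))⟩ : E) ⊗ₜ p.2, rfl⟩
  obtain ⟨w', hw'⟩ := (hg E hfin).mul_inv_cancel (a := w) fun h0 => hz (by rw [h0, map_zero])
  exact ⟨f w', by show f w * f w' = 1; rw [← map_mul, hw', map_one]⟩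

variable {k : Type u} {k' : Type u} {K : Type v} {K' : Type w} [Field k] [Field k'] [Field K] [Field K']
  [Algebra k k'] [Algebra k K] [Algebra K K'] [Algebra k' K'] [Algebra k K']
  [IsScalarTower k k' K'] [IsScalarTower k K K']

/-- Every element comes from finitely many constants. -/
theorem exists_finset_coeff (h : Function.Surjective (Algebra.TensorProduct.productMap
      (IsScalarTower.toAlgHom k k' K') (IsScalarTower.toAlgHom k K K'))) (z : K') :
    ∃ s : Finset k', ∀ E : IntermediateField k k', (s : Set k') ⊆ E →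
      z ∈ Algebra.adjoin K (Set.range fun c : E => algebraMap k' K' c) ∧
      ∃ w : E ⊗[k] K, Algebra.TensorProduct.productMap (IsScalarTower.toAlgHom k k' K') (IsScalarTower.toAlgHom k K K')
          (Algebra.TensorProduct.map E.val (AlgHom.id k K) w) = z := by
  classical
  obtain ⟨w, rfl⟩ := h z
  obtain ⟨s, hs⟩ := TensorProduct.exists_finset w
  refine ⟨s.image Prod.fst, fun E hE => ?_⟩
  have hm : ∀ p ∈ s, p.1 ∈ E := fun p hp => hE (Finset.mem_coe.2 (Finset.mem_image_of_mem _ hp))
  refine ⟨?_, ∑ p ∈ s.attach, (⟨p.1.1, hm p.1 p.2⟩ : E) ⊗ₜ p.1.2, ?_⟩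
  · rw [hs, map_sum]
    refine Subalgebra.sum_mem _ fun p hp => ?_
    rw [Algebra.TensorProduct.productMap_apply_tmul]
    exact mul_mem (Algebra.subset_adjoin ⟨⟨p.1, hm p hp⟩, rfl⟩) (Subalgebra.algebraMap_mem _ _)
  · congr 1
    rw [hs, map_sum, ← Finset.sum_attach s]
    rfl

section fg1
variable [Algebra.IsAlgebraic k k']
  (h : Function.Surjective (Algebra.TensorProduct.productMap
      (IsScalarTower.toAlgHom k k' K') (IsScalarTower.toAlgHom k K K')))

theorem transcendental_algExt {x : K} (hx : Transcendental k x) : Transcendental k' (algebraMap K K' x) :=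
  fun halg => hx ((isAlgebraic_algebraMap_iff (algebraMap K K').injective).1 (halg.restrictScalars k))

include h in
/-- The extended field has transcendence degree one, finitely generated. -/
theorem fg1_algExt (hK : FG1 k K) : FG1 k' K' := by
  classical
  obtain ⟨x, hx, hfin⟩ := hK
  refine ⟨algebraMap K K' x, transcendental_algExt hx, ?_⟩
  set F := IntermediateField.adjoin k ({x} : Set K)
  set F' := IntermediateField.adjoin k' ({algebraMap K K' x} : Set K')
  let b := Module.finBasis F K
  have hle : F.map (IsScalarTower.toAlgHom k K K') ≤ F'.restrictScalars k := by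
    rw [IntermediateField.adjoin_map, Set.image_singleton, IntermediateField.adjoin_simple_le_iff]
    exact IntermediateField.mem_adjoin_simple_self k' _
  have hmem : ∀ a : F, algebraMap K K' a ∈ F' := fun a => hle ⟨a, a.2, rfl⟩
  refine ⟨⟨Finset.univ.image fun i => algebraMap K K' (b i), eq_top_iff.2 fun z _ => ?_⟩⟩
  obtain ⟨w, rfl⟩ := h z
  induction w using TensorProduct.induction_on with
  | zero => rw [map_zero]; exact zero_mem _
  | add a c ha hc => rw [map_add]; exact add_mem (ha trivial) (hc trivial)
  | tmul a c =>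
    rw [Algebra.TensorProduct.productMap_apply_tmul, IsScalarTower.coe_toAlgHom', IsScalarTower.coe_toAlgHom',
      ← b.sum_repr c, map_sum, Finset.mul_sum]
    refine Submodule.sum_mem _ fun i _ => ?_
    have : algebraMap k' K' a * algebraMap K K' (b.repr c i • b i) =
        (⟨algebraMap k' K' a * algebraMap K K' (b.repr c i : K),
          mul_mem (F'.algebraMap_mem a) (hmem _)⟩ : F') • algebraMap K K' (b i) := by
      rw [Algebra.smul_def, Algebra.smul_def, map_mul]
      exact (mul_assoc _ _ _).symm
    rw [this]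
    exact Submodule.smul_mem _ _ (Submodule.subset_span (by simp))

end fg1

/-- Over an algebraically closed field every place has degree one. -/
theorem deg_eq_one_of_isAlgClosed {F : Type u} {L : Type w} [Field F] [IsAlgClosed F] [Field L] [Algebra F L]
    (hL : FG1 F L) (P : Place F L) : P.deg = 1 := by
  rw [← finrank_residue P]
  letI : Module F (IsLocalRing.ResidueField P.O) := Algebra.toModule
  haveI : Module.Finite F (IsLocalRing.ResidueField P.O) := finite_residue hL P
  haveI : Algebra.IsIntegral F (IsLocalRing.ResidueField P.O) := Algebra.IsIntegral.of_finite F _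
  exact ((LinearEquiv.ofBijective (Algebra.linearMap F (IsLocalRing.ResidueField P.O))
    IsAlgClosed.algebraMap_bijective_of_isIntegral).finrank_eq).symm.trans (finrank_self F)

/-- A function with poles only at `P` and a local parameter. -/
theorem exists_pole_only {F : Type u} {L : Type w} [Field F] [Field L] [Algebra F L]
    (hL : FG1 F L) (P : Place F L) :
    ∃ (f : L) (m : ℕ), 0 < m ∧ Transcendental F f ∧ pole (k := F) f = Finsupp.single P (m : ℤ) ∧
      1 < P.1 f ∧ ∀ R : Place F L, 1 < R.1 f → R = P := by
  obtain ⟨f, m, hm, htr, hf⟩ := exists_pole_single' hL P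
  have hf0 : f ≠ 0 := by rintro rfl; exact htr isAlgebraic_zero
  have key : ∀ R : Place F L, 1 < R.1 f ↔ pole (k := F) f R ≠ 0 := fun R => by
    rw [pole_apply hL, v_eq R hf0, ← exp_zero, exp_lt_exp]
    omega
  refine ⟨f, m, hm, htr, hf, (key P).2 ?_, fun R hR => ?_⟩
  · rw [hf, Finsupp.single_eq_same]; omega
  · by_contra hne
    exact (key R).1 hR (by rw [hf, Finsupp.single_eq_of_ne hne])

section lift

variable {kbar : Type u} {Kbar : Type x} [Field kbar] [Field Kbar]
  [Algebra k kbar] [Algebra K Kbar] [Algebra kbar Kbar] [Algebra k Kbar]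
  [IsScalarTower k kbar Kbar] [IsScalarTower k K Kbar] [Algebra k' kbar] [IsScalarTower k k' kbar]

variable (kbar Kbar) in
/-- The embedding of a partial constant extension. -/
noncomputable def liftHom (h : Function.Bijective (Algebra.TensorProduct.productMap
    (IsScalarTower.toAlgHom k k' K') (IsScalarTower.toAlgHom k K K'))) : K' →ₐ[k] Kbar :=
  ((Algebra.TensorProduct.productMap (IsScalarTower.toAlgHom k kbar Kbar) (IsScalarTower.toAlgHom k K Kbar)).comp
    (Algebra.TensorProduct.map (IsScalarTower.toAlgHom k k' kbar) (AlgHom.id k K))).comp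
    (AlgEquiv.ofBijective _ h).symm.toAlgHom

variable (h : Function.Bijective (Algebra.TensorProduct.productMap
    (IsScalarTower.toAlgHom k k' K') (IsScalarTower.toAlgHom k K K')))

theorem liftHom_productMap (w : k' ⊗[k] K) :
    liftHom kbar Kbar h (Algebra.TensorProduct.productMap (IsScalarTower.toAlgHom k k' K') (IsScalarTower.toAlgHom k K K') w) =
      Algebra.TensorProduct.productMap (IsScalarTower.toAlgHom k kbar Kbar) (IsScalarTower.toAlgHom k K Kbar)
        (Algebra.TensorProduct.map (IsScalarTower.toAlgHom k k' kbar) (AlgHom.id k K) w) := by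
  show _ = _
  rw [liftHom, AlgHom.comp_apply, AlgHom.comp_apply]
  congr 2
  exact (AlgEquiv.ofBijective _ h).symm_apply_apply w

theorem liftHom_const (c : k') :
    liftHom kbar Kbar h (algebraMap k' K' c) = algebraMap kbar Kbar (algebraMap k' kbar c) := by
  have := liftHom_productMap (kbar := kbar) (Kbar := Kbar) h (c ⊗ₜ[k] 1)
  simpa using this

theorem liftHom_base (a : K) : liftHom kbar Kbar h (algebraMap K K' a) = algebraMap K Kbar a := by
  have := liftHom_productMap (kbar := kbar) (Kbar := Kbar) h ((1 : k') ⊗ₜ[k] a)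
  simpa using this

variable (hb : Function.Bijective (Algebra.TensorProduct.productMap
    (IsScalarTower.toAlgHom k kbar Kbar) (IsScalarTower.toAlgHom k K Kbar)))

include hb in
/-- Linear disjointness. -/
theorem linearIndependent_liftHom {ι : Type*} {v : ι → K'} (hv : LinearIndependent k' v) :
    LinearIndependent kbar fun i => liftHom kbar Kbar h (v i) := by
  classical
  set π := Algebra.TensorProduct.productMap (IsScalarTower.toAlgHom k k' K') (IsScalarTower.toAlgHom k K K') with hπ
  set pb := Algebra.TensorProduct.productMap (IsScalarTower.toAlgHom k kbar Kbar) (IsScalarTower.toAlgHom k K Kbar) with hpb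
  choose w hw using fun i => h.2 (v i)
  let πl : (k' ⊗[k] K) →ₗ[k'] K' :=
    { toFun := π
      map_add' := map_add π
      map_smul' := fun c x => by
        rw [Algebra.smul_def, Algebra.smul_def, map_mul, RingHom.id_apply]
        congr 1
        simp [π] }
  have hwi : LinearIndependent k' w := LinearIndependent.of_comp πl (by convert hv; exact funext hw)
  let b := Basis.sumExtend hwi
  let B := Algebra.TensorProduct.basis kbar b
  have hli : LinearIndependent kbar fun i => (1 : kbar) ⊗ₜ[k'] w i := by
    have := B.linearIndependent.comp Sum.inl Sum.inl_injective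
    rw [show (fun i => (1 : kbar) ⊗ₜ[k'] w i) = (B ∘ Sum.inl) from funext fun i => by
      simp [B, b, Algebra.TensorProduct.basis_apply, Basis.sumExtend]
      rfl]
    convert this
  let e := Algebra.TensorProduct.cancelBaseChange k k' kbar kbar K
  let T : kbar ⊗[k'] (k' ⊗[k] K) →ₗ[kbar] Kbar :=
    { toFun := fun z => pb (e z)
      map_add' := fun a b => by simp
      map_smul' := fun c x => by
        rw [map_smul, Algebra.smul_def, Algebra.smul_def, map_mul, RingHom.id_apply]
        congr 1
        simp [pb] }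
  have hTi : Function.Injective T := hb.1.comp e.injective
  have hT1 : ∀ x : k' ⊗[k] K, T ((1 : kbar) ⊗ₜ[k'] x) =
      pb (Algebra.TensorProduct.map (IsScalarTower.toAlgHom k k' kbar) (AlgHom.id k K) x) := fun x => by
    show pb (e _) = _
    congr 1
    induction x using TensorProduct.induction_on with
    | zero => simp
    | tmul a c => simp [e, Algebra.smul_def]
    | add a c ha hc => rw [TensorProduct.tmul_add, map_add, map_add, ha, hc]
  have := hli.map' T (LinearMap.ker_eq_bot.2 hTi)
  rw [show (fun i => liftHom kbar Kbar h (v i)) = (T ∘ fun i => (1 : kbar) ⊗ₜ[k'] w i) from funext fun i => by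
    show _ = T _
    rw [hT1, ← liftHom_productMap h, hw]]
  exact this

variable [Algebra.IsAlgebraic k' kbar]

/-- Places extend to the larger constant extension. -/
theorem exists_place_over_lift (hKb : FG1 kbar Kbar) (Q : Place k' K') :
    ∃ R : Place kbar Kbar, ∀ y : K', R.1 (liftHom kbar Kbar h y) ≤ 1 ↔ Q.1 y ≤ 1 := by
  classical
  set ψ := (liftHom kbar Kbar h).toRingHom with hψ
  let A : Subring Kbar := Q.O.toSubring.map ψ
  let g : Q.O →+* A := (ψ.comp Q.O.subtype).codRestrict A fun c => ⟨c, c.2, rfl⟩
  have hgb : Function.Bijective g := ⟨fun a b hab => Subtype.ext (ψ.injective (congrArg Subtype.val hab)),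
    fun ⟨a, c, hc, hca⟩ => ⟨⟨c, hc⟩, Subtype.ext hca⟩⟩
  let I : Ideal A := (IsLocalRing.maximalIdeal Q.O).map g
  have hI : I ≠ ⊤ := by
    intro e
    have h1 := Ideal.comap_map_of_bijective g hgb (I := IsLocalRing.maximalIdeal Q.O)
    rw [show (IsLocalRing.maximalIdeal Q.O).map g = ⊤ from e, Ideal.comap_top] at h1
    exact (IsLocalRing.maximalIdeal.isMaximal Q.O).ne_top h1.symm
  obtain ⟨V, hAV, hIV⟩ := Ideal.image_subset_nonunits_valuationSubring I hI
  have hkV : ∀ c : kbar, algebraMap kbar Kbar c ∈ V := fun c => by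
    obtain ⟨p, hp, hp0⟩ := Algebra.IsIntegral.isIntegral (R := k') c
    have hmem : ∀ a : k', algebraMap kbar Kbar (algebraMap k' kbar a) ∈ V := fun a =>
      hAV ⟨algebraMap k' K' a, Q.2.1 a, liftHom_const h a⟩
    let f : k' →+* V := ((algebraMap kbar Kbar).comp (algebraMap k' kbar)).codRestrict V.toSubring hmem
    have hint : IsIntegral V (algebraMap kbar Kbar c) := ⟨p.map f, hp.map f, by
      rw [Polynomial.eval₂_map, show (algebraMap V Kbar).comp f = (algebraMap kbar Kbar).comp (algebraMap k' kbar)
        from RingHom.ext fun _ => rfl, ← Polynomial.hom_eval₂, hp0, map_zero]⟩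
    obtain ⟨⟨z, hz⟩, hz'⟩ := IsIntegrallyClosed.isIntegral_iff.1 hint
    rw [← hz']; exact hz
  have hlt : ∀ y : K', Q.1 y < 1 → V.valuation (ψ y) < 1 := fun y hy => by
    refine (ValuationSubring.mem_nonunits_iff V).1 (hIV ⟨g ⟨y, hy.le⟩, Ideal.mem_map_of_mem g ?_, rfl⟩)
    rw [← IsLocalRing.ker_residue, RingHom.mem_ker, residue_eq_zero_iff_lt]
    exact hy
  have hgt : ∀ y : K', ¬ Q.1 y ≤ 1 → ψ y ∉ V := fun y hy hm => by
    rw [not_le] at hy
    have := hlt y⁻¹ (by rw [map_inv₀]; exact inv_lt_one_of_one_lt₀ hy)
    rw [map_inv₀, map_inv₀] at this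
    have h0 : V.valuation (ψ y) ≠ 0 := by
      rw [Valuation.ne_zero_iff, _root_.map_ne_zero]
      rintro rfl; simp at hy
    exact this.not_ge (one_le_inv₀ (zero_lt_iff.2 h0) |>.2 ((V.valuation_le_one_iff _).2 hm))
  obtain ⟨t, htv⟩ := Q.2.2 (exp (1 : ℤ))
  have ht : ψ t ∉ V := hgt t (by rw [htv, ← exp_zero, exp_le_exp]; omega)
  obtain ⟨R, hR⟩ := exists_place_of_valuationSubring hKb V hkV (fun e => ht (e ▸ trivial))
  refine ⟨R, fun y => ?_⟩
  rw [show R.1 (liftHom kbar Kbar h y) ≤ 1 ↔ ψ y ∈ V from hR ▸ Iff.rfl]
  exact ⟨fun hm => not_not.1 fun hy => hgt y hy hm, fun hy => hAV ⟨y, hy, rfl⟩⟩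

/-- A lift with a parameter below has the same valuation. -/
theorem v_eq_of_lift (Q : Place k' K') (R : Place kbar Kbar)
    (hR : ∀ y : K', R.1 (liftHom kbar Kbar h y) ≤ 1 ↔ Q.1 y ≤ 1) {z : K'}
    (hz : R.1 (liftHom kbar Kbar h z) = exp (-1 : ℤ)) (y : K') : Q.1 y = R.1 (liftHom kbar Kbar h y) := by
  set ψ := liftHom kbar Kbar h with hψ
  let R0 : Place k' K' := ⟨R.1.comap ψ.toRingHom, fun c => by
      rw [Valuation.comap_apply]
      show R.1 (ψ (algebraMap k' K' c)) ≤ 1
      rw [hψ, liftHom_const]; exact R.2.1 _, fun a => by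
      rcases eq_or_ne a 0 with rfl | ha
      · exact ⟨0, map_zero _⟩
      · refine ⟨z ^ (-log a), ?_⟩
        show R.1 (ψ (z ^ (-log a))) = a
        rw [map_zpow₀, map_zpow₀, hz, ← exp_zsmul, smul_eq_mul, show -log a * -1 = log a by ring, exp_log ha]⟩
  have hQ : R0 = Q := place_ext_of_le R0 Q fun y hy => (hR y).1 hy
  rw [← hQ]; rfl

variable [Algebra.IsAlgebraic k k']

include hb in
/-- A place with parameter and pole function defined below has no larger degree. -/
theorem deg_le_of_lift (hK : FG1 k K) (hKb : FG1 kbar Kbar) (Q : Place k' K') (R : Place kbar Kbar)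
    (hR : ∀ y : K', R.1 (liftHom kbar Kbar h y) ≤ 1 ↔ Q.1 y ≤ 1) {z f : K'} {m : ℕ} (hm : 0 < m)
    (hz : R.1 (liftHom kbar Kbar h z) = exp (-1 : ℤ))
    (hf : pole (k := kbar) (liftHom kbar Kbar h f) = Finsupp.single R (m : ℤ))
    (htr : Transcendental kbar (liftHom kbar Kbar h f))
    (honly : ∀ R' : Place kbar Kbar, 1 < R'.1 (liftHom kbar Kbar h f) → R' = R) : Q.deg ≤ R.deg := by
  classical
  set ψ := liftHom kbar Kbar h with hψ
  have hK' : FG1 k' K' := fg1_algExt h.2 hK
  have hv : ∀ y, Q.1 y = R.1 (ψ y) := v_eq_of_lift h Q R hR hz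
  have hf0 : f ≠ 0 := by rintro rfl; exact htr (by rw [map_zero]; exact isAlgebraic_zero)
  have hψf0 : ψ f ≠ 0 := (map_ne_zero ψ).2 hf0
  have hRord : R.ord (ψ f) = -(m : ℤ) := by
    have := congrArg (fun D : Divisor kbar Kbar => D R) hf
    simp only [pole_apply hKb, Finsupp.single_eq_same] at this
    omega
  have hQord : Q.ord f = -(m : ℤ) := by rw [← hRord]; simp only [Place.ord, hv]
  have hother : ∀ S : Place k' K', S ≠ Q → 0 ≤ S.ord f := by
    intro S hS
    by_contra hneg
    obtain ⟨S', hS'⟩ := exists_place_over_lift (kbar := kbar) (Kbar := Kbar) h hKb S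
    have h1 : ¬ S.1 f ≤ 1 := by rw [v_eq S hf0, ← exp_zero, exp_le_exp]; omega
    obtain rfl := honly S' (not_le.1 fun h2 => h1 ((hS' f).1 h2))
    exact hS (place_ext_of_le S Q fun y hy => (hR y).1 ((hS' y).2 hy))
  have hpole : pole (k := k') f = Finsupp.single Q (m : ℤ) := by
    ext S
    rw [pole_apply hK']
    rcases eq_or_ne S Q with rfl | hne
    · rw [Finsupp.single_eq_same, hQord]; omega
    · rw [Finsupp.single_eq_of_ne hne]; have := hother S hne; omega
  have hftr : Transcendental k' f := transcendental_of_ord hK' Q (by omega)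
  have h1 := deg_pole hK' hftr
  rw [hpole, deg_single] at h1
  have h2 := deg_pole hKb htr
  rw [hf, deg_single] at h2
  have := finite_adjoin hK' hftr
  have := finite_adjoin hKb htr
  set F := IntermediateField.adjoin k' ({f} : Set K') with hF
  set F' := IntermediateField.adjoin kbar ({ψ f} : Set Kbar) with hF'
  let b := Module.finBasis F K'
  have hle : finrank F K' ≤ finrank F' Kbar := by
    have hli : LinearIndependent F' fun j => ψ (b j) := by
      rw [Fintype.linearIndependent_iff]
      intro c hc j₀
      have hrep : ∀ j, ∃ p q : Polynomial kbar, q ≠ 0 ∧ (c j : Kbar) * Polynomial.aeval (ψ f) q = Polynomial.aeval (ψ f) p := by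
        intro j
        obtain ⟨p, q, hpq⟩ := (IntermediateField.mem_adjoin_simple_iff kbar (c j : Kbar)).1 (c j).2
        by_cases hq : Polynomial.aeval (ψ f) q = 0
        · refine ⟨0, 1, one_ne_zero, ?_⟩
          rw [hpq, hq, div_zero, zero_mul, map_zero]
        · exact ⟨p, q, fun e => hq (by rw [e, map_zero]), by rw [hpq, div_mul_cancel₀ _ hq]⟩
      choose p q hq hpq using hrep
      let P : Fin (finrank F K') → Polynomial kbar := fun j => p j * ∏ l ∈ Finset.univ.erase j, q l
      have hsum : ∑ j, Polynomial.aeval (ψ f) (P j) * ψ (b j) = 0 := by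
        have : ∀ j, Polynomial.aeval (ψ f) (P j) * ψ (b j) =
            (∏ l, Polynomial.aeval (ψ f) (q l)) * ((c j : Kbar) * ψ (b j)) := fun j => by
          rw [← Finset.mul_prod_erase _ _ (Finset.mem_univ j)]
          simp only [P, map_mul, map_prod, ← hpq]
          ring
        rw [Finset.sum_congr rfl fun j _ => this j, ← Finset.mul_sum]
        simp only [Algebra.smul_def] at hc
        rw [show ∑ j, (c j : Kbar) * ψ (b j) = 0 from hc, mul_zero]
      obtain ⟨N, hN⟩ : ∃ N, ∀ j, (P j).natDegree < N :=
        ⟨Finset.univ.sup (fun j => (P j).natDegree) + 1, fun j =>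
          Nat.lt_succ_of_le (Finset.le_sup (f := fun j => (P j).natDegree) (Finset.mem_univ j))⟩
      have hind : LinearIndependent k' fun x : Fin (finrank F K') × Fin N => f ^ (x.2 : ℕ) * b x.1 := by
        rw [Fintype.linearIndependent_iff]
        intro g hg0 x
        rw [Fintype.sum_prod_type] at hg0
        have hg1 : ∀ j, ∑ i : Fin N, g (j, i) • f ^ (i : ℕ) = 0 := by
          have h3 := Fintype.linearIndependent_iff.1 b.linearIndependent
            (fun j => (⟨∑ i : Fin N, g (j, i) • f ^ (i : ℕ), sum_mem fun i _ =>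
              IntermediateField.smul_mem _ (pow_mem (IntermediateField.mem_adjoin_simple_self k' f) _)⟩ : F)) (by
              refine Eq.trans (Finset.sum_congr rfl fun j _ => ?_) hg0
              rw [Algebra.smul_def]
              show (∑ i : Fin N, g (j, i) • f ^ (i : ℕ)) * b j = _
              rw [Finset.sum_mul]
              exact Finset.sum_congr rfl fun i _ => smul_mul_assoc _ _ _)
          exact fun j => congrArg Subtype.val (h3 j)
        exact Fintype.linearIndependent_iff.1
          (((Polynomial.basisMonomials k').linearIndependent.map' (Polynomial.aeval f).toLinearMap (LinearMap.ker_eq_bot.2 (transcendental_iff_injective.1 hftr))).comp (Fin.val : Fin N → ℕ) Fin.val_injective)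
          (fun i => g (x.1, i)) (by simpa [Polynomial.aeval_monomial] using hg1 x.1) x.2
      have hcoef := Fintype.linearIndependent_iff.1 (linearIndependent_liftHom h hb hind)
        (fun x => (P x.1).coeff x.2) (by
          rw [Fintype.sum_prod_type]
          refine Eq.trans (Finset.sum_congr rfl fun j _ => ?_) hsum
          rw [Polynomial.aeval_eq_sum_range' (hN j), Finset.sum_mul, Finset.sum_range]
          exact Finset.sum_congr rfl fun i _ => by rw [hψ, map_mul, map_pow, smul_mul_assoc])
      have hP : P j₀ = 0 := Polynomial.ext fun i => by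
        rcases lt_or_ge i N with hi | hi
        · simpa using hcoef (j₀, ⟨i, hi⟩)
        · simpa using Polynomial.coeff_eq_zero_of_natDegree_lt ((hN j₀).trans_le hi)
      have hp : p j₀ = 0 := (mul_eq_zero.1 hP).resolve_right
        (Finset.prod_ne_zero_iff.2 fun l _ => hq l)
      have h4 := hpq j₀
      rw [hp, map_zero] at h4
      exact Subtype.ext ((mul_eq_zero.1 h4).resolve_right fun e => hq j₀
        ((transcendental_iff.1 htr) _ e))
    simpa using hli.fintype_card_le_finrank
  have h5 : (m : ℤ) * Q.deg ≤ m * R.deg := by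
    rw [h1, h2]
    exact_mod_cast hle
  exact_mod_cast le_of_mul_le_mul_left h5 (by exact_mod_cast hm : (0 : ℤ) < m)

include hb in
/-- A place with parameter and pole function defined below is rational. -/
theorem deg_eq_one_of_lift [IsAlgClosed kbar] (hK : FG1 k K) (hKb : FG1 kbar Kbar) (Q : Place k' K') (R : Place kbar Kbar)
    (hR : ∀ y : K', R.1 (liftHom kbar Kbar h y) ≤ 1 ↔ Q.1 y ≤ 1) {z f : K'} {m : ℕ} (hm : 0 < m)
    (hz : R.1 (liftHom kbar Kbar h z) = exp (-1 : ℤ))
    (hf : pole (k := kbar) (liftHom kbar Kbar h f) = Finsupp.single R (m : ℤ))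
    (htr : Transcendental kbar (liftHom kbar Kbar h f))
    (honly : ∀ R' : Place kbar Kbar, 1 < R'.1 (liftHom kbar Kbar h f) → R' = R) : Q.deg = 1 := by
  have h1 := deg_le_of_lift h hb hK hKb Q R hR hm hz hf htr honly
  rw [deg_eq_one_of_isAlgClosed hKb R] at h1
  have h2 := deg_pos (fg1_algExt h.2 hK) Q
  omega

end lift

end Groth.Agent.GeomFFLib
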