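import Groth.Agent.GeomFFLib.ConstExt
import Groth.Agent.FFLib.Places
import Groth.Agent.FFLib.Expand

/-! The integral closure of a place in a constant extension, compared with `O_P[k']`. -/

set_option autoImplicit false
universe u v

open TensorProduct FunFld Module WithZero Groth.Agent Groth.Agent.FFLib

namespace Groth.Agent.GeomFFLib

attribute [local instance 10000] Algebra.toModule

variable {k k' : Type u} {K K' : Type v} [Field k] [Field k'] [Field K] [Field K']
  [Algebra k k'] [FiniteDimensional k k'] [Algebra k K] [Algebra K K'] [Algebra k' K'] [Algebra k K']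
  [IsScalarTower k k' K'] [IsScalarTower k K K']

theorem finite_of_surj (h : Function.Surjective (Algebra.TensorProduct.productMap
    (IsScalarTower.toAlgHom k k' K') (IsScalarTower.toAlgHom k K K'))) : FiniteDimensional K K' := by
  classical
  let b := Module.finBasis k k'
  refine ⟨⟨Finset.univ.image fun i => algebraMap k' K' (b i), eq_top_iff.2 fun z _ => ?_⟩⟩
  obtain ⟨w, rfl⟩ := h z
  induction w using TensorProduct.induction_on with
  | zero => rw [map_zero]; exact zero_mem _
  | add a c ha hc => rw [map_add]; exact add_mem (ha trivial) (hc trivial)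
  | tmul a c =>
    rw [Algebra.TensorProduct.productMap_apply_tmul, IsScalarTower.coe_toAlgHom', IsScalarTower.coe_toAlgHom',
      ← b.sum_repr a, map_sum, Finset.sum_mul]
    refine Submodule.sum_mem _ fun i _ => ?_
    have : algebraMap k' K' (b.repr a i • b i) * algebraMap K K' c =
        (algebraMap k K (b.repr a i) * c) • algebraMap k' K' (b i) := by
      rw [Algebra.smul_def, Algebra.smul_def, map_mul, map_mul, ← IsScalarTower.algebraMap_apply,
        ← IsScalarTower.algebraMap_apply]
      ring
    rw [this]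
    exact Submodule.smul_mem _ _ (Submodule.subset_span (by simp))

variable (P : Place k K) [Algebra P.O K'] [IsScalarTower P.O K K']

omit [FiniteDimensional k k'] in
theorem exists_pow_mul_mem {t : P.O} (htv : P.1 (t : K) = exp (-1)) {z : K'}
    (hz : z ∈ Set.range (Algebra.TensorProduct.productMap (IsScalarTower.toAlgHom k k' K')
      (IsScalarTower.toAlgHom k K K'))) :
    ∃ n : ℕ, algebraMap K K' (t : K) ^ n * z ∈ Algebra.adjoin P.O (Set.range (algebraMap k' K')) := by
  have hA : ∀ c : P.O, algebraMap K K' (c : K) ∈ Algebra.adjoin P.O (Set.range (algebraMap k' K')) := fun c => by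
    rw [show algebraMap K K' (c : K) = algebraMap P.O K' c from (IsScalarTower.algebraMap_apply P.O K K' c).symm]
    exact Subalgebra.algebraMap_mem _ c
  obtain ⟨w, rfl⟩ := hz
  induction w using TensorProduct.induction_on with
  | zero => exact ⟨0, by simp⟩
  | tmul a c =>
    obtain ⟨n, hn⟩ : ∃ n : ℕ, P.1 ((t : K) ^ n * c) ≤ 1 := by
      rcases eq_or_ne c 0 with rfl | hc
      · exact ⟨0, by simp⟩
      · refine ⟨(log (P.1 c)).toNat, ?_⟩
        rw [map_mul, map_pow, htv, ← exp_nsmul]
        conv_lhs => rw [← exp_log ((Valuation.ne_zero_iff P.1).2 hc)]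
        rw [← exp_add]
        refine le_of_le_of_eq (exp_le_exp.2 (?_ : _ ≤ (0 : ℤ))) exp_zero
        rw [nsmul_eq_mul]
        simp only [log_exp]
        omega
    refine ⟨n, ?_⟩
    rw [Algebra.TensorProduct.productMap_apply_tmul, IsScalarTower.coe_toAlgHom', IsScalarTower.coe_toAlgHom',
      mul_left_comm, ← map_pow, ← map_mul]
    exact mul_mem (Algebra.subset_adjoin ⟨a, rfl⟩) (hA ⟨_, hn⟩)
  | add a b ha hb =>
    obtain ⟨n₁, h₁⟩ := ha
    obtain ⟨n₂, h₂⟩ := hb
    refine ⟨n₁ + n₂, ?_⟩
    rw [map_add, mul_add]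
    refine add_mem ?_ ?_
    · rw [pow_add, mul_right_comm]
      exact mul_mem h₁ (pow_mem (hA t) _)
    · rw [pow_add, mul_assoc]
      exact mul_mem (pow_mem (hA t) _) h₂

variable (hK : IsFunctionField k K)
  (h : Function.Surjective (Algebra.TensorProduct.productMap
    (IsScalarTower.toAlgHom k k' K') (IsScalarTower.toAlgHom k K K')))

include hK h in
/-- The integral closure differs from `O_P[k']` by a finite-dimensional space, and has a conductor. -/
theorem finite_quot_and_conductor :
    (∃ V : Submodule k K', FiniteDimensional k V ∧ ∀ r ∈ integralClosure P.O K',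
        ∃ s ∈ Algebra.adjoin P.O (Set.range (algebraMap k' K')), r - s ∈ V) ∧
    (∃ c ∈ integralClosure P.O K', c ≠ 0 ∧ ∀ r ∈ integralClosure P.O K',
        c * r ∈ Algebra.adjoin P.O (Set.range (algebraMap k' K'))) := by
  classical
  haveI := finite_of_surj h
  haveI := integralClosure_finite' (K' := K') hK.1 P
  obtain ⟨m, v, hv⟩ := Module.Finite.exists_fin (R := P.O) (M := integralClosure P.O K')
  obtain ⟨t₀, ht0, -, htv⟩ := exists_uniformizer P
  obtain ⟨t, rfl⟩ : ∃ t : P.O, (t : K) = t₀ :=
    ⟨⟨t₀, show P.1 t₀ ≤ 1 by rw [htv, ← exp_zero, exp_le_exp]; omega⟩, rfl⟩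
  set R' := Algebra.adjoin P.O (Set.range (algebraMap k' K')) with hR'
  have ha : ∀ c : P.O, algebraMap P.O K' c = algebraMap K K' (c : K) := fun c =>
    IsScalarTower.algebraMap_apply P.O K K' c
  choose n hn using fun i : Fin m => exists_pow_mul_mem P (k' := k') htv (z := (v i : K')) (h _)
  obtain ⟨N, hN⟩ : ∃ N, ∀ i, n i ≤ N := ⟨Finset.univ.sup n, fun i => Finset.le_sup (Finset.mem_univ i)⟩
  have hN' : ∀ i, algebraMap P.O K' t ^ N * (v i : K') ∈ R' := fun i => by
    rw [← Nat.sub_add_cancel (hN i), pow_add, mul_assoc]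
    refine mul_mem (pow_mem (Subalgebra.algebraMap_mem _ _) _) ?_
    rw [ha]; exact hn i
  have hspan : ∀ r ∈ integralClosure P.O K', ∃ a : Fin m → P.O, r = ∑ i, algebraMap P.O K' (a i) * (v i : K') := by
    intro r hr
    obtain ⟨a, ha'⟩ := (Submodule.mem_span_range_iff_exists_fun P.O).1 (hv ▸ Submodule.mem_top : (⟨r, hr⟩ : integralClosure P.O K') ∈ Submodule.span P.O (Set.range v))
    refine ⟨a, ?_⟩
    have := congrArg (integralClosure P.O K').val ha'
    rw [map_sum] at this
    rw [show r = (integralClosure P.O K').val ⟨r, hr⟩ from rfl, ← this]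
    exact Finset.sum_congr rfl fun i _ => Algebra.smul_def (a i) (v i : K')
  refine ⟨?_, algebraMap P.O K' t ^ N, ?_, ?_, fun r hr => ?_⟩
  · obtain ⟨A, -, hA1, hA2⟩ := exists_residue_lifts hK.1 P
    let W : Submodule k K' := Submodule.span k
      (Set.range fun p : {x // x ∈ A} × Fin N × Fin m =>
        algebraMap K K' ((t : K) ^ (p.2.1 : ℕ) * (p.1 : K)) * (v p.2.2 : K'))
    refine ⟨W, FiniteDimensional.span_of_finite k (Set.finite_range _), fun r hr => ?_⟩
    have key : ∀ j ≤ N, ∀ c : K, P.1 c ≤ 1 → ∀ i, ∃ d : K, P.1 d ≤ 1 ∧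
        algebraMap K K' c * (v i : K') - algebraMap K K' ((t : K) ^ j * d) * (v i : K') ∈ W := by
      intro j
      induction j with
      | zero => exact fun _ c hc i => ⟨c, hc, by rw [pow_zero, one_mul, sub_self]; exact zero_mem _⟩
      | succ j ih =>
        intro hj c hc i
        obtain ⟨d, hd, hmem⟩ := ih (Nat.le_of_succ_le hj) c hc i
        obtain ⟨l, hl⟩ := hA2 d hd
        refine ⟨(d - ∑ a ∈ A, l a • a) / (t : K), ?_, ?_⟩
        · rw [map_div₀, htv, div_le_one₀ (exp_pos)]
          exact le_exp_neg_one_of_lt_one hl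
        · have hsum : algebraMap K K' ((t : K) ^ j * ∑ a ∈ A, l a • a) * (v i : K') ∈ W := by
            rw [Finset.mul_sum, map_sum, Finset.sum_mul]
            refine Submodule.sum_mem _ fun a ha' => ?_
            have : algebraMap K K' ((t : K) ^ j * l a • a) * (v i : K') =
                l a • (algebraMap K K' ((t : K) ^ j * a) * (v i : K')) := by
              rw [Algebra.smul_def, Algebra.smul_def, map_mul, map_mul, map_mul, ← IsScalarTower.algebraMap_apply]
              ring
            rw [this]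
            exact Submodule.smul_mem _ _ (Submodule.subset_span ⟨(⟨a, ha'⟩, ⟨j, hj⟩, i), rfl⟩)
          convert add_mem hmem hsum using 1
          rw [pow_succ, mul_assoc, mul_div_cancel₀ _ ht0, mul_sub, map_sub, sub_mul]
          ring
    obtain ⟨a, rfl⟩ := hspan r hr
    choose d hd hdmem using fun i => key N le_rfl (a i : K) (a i).2 i
    refine ⟨∑ i, algebraMap P.O K' (⟨d i, hd i⟩) * (algebraMap P.O K' t ^ N * (v i : K')),
      sum_mem fun i _ => mul_mem (Subalgebra.algebraMap_mem _ _) (hN' i), ?_⟩
    rw [← Finset.sum_sub_distrib]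
    refine Submodule.sum_mem _ fun i _ => ?_
    convert hdmem i using 1
    rw [ha, ha, ha, map_mul, map_pow]
    ring
  · exact pow_mem (Subalgebra.algebraMap_mem _ _) _
  · exact pow_ne_zero _ (by rw [ha]; exact (map_ne_zero _).2 ht0)
  · obtain ⟨a, rfl⟩ := hspan r hr
    rw [Finset.mul_sum]
    refine sum_mem fun i _ => ?_
    rw [mul_left_comm]
    exact mul_mem (Subalgebra.algebraMap_mem _ _) (hN' i)

omit [FiniteDimensional k k'] [Algebra P.O K'] [IsScalarTower P.O K K'] in
theorem isOver_of_hasExtension [FiniteDimensional K K'] (hK : FFLib.FG1 k K) (Q : Place k K')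
    [P.1.HasExtension Q.1] : IsOver Q P := by
  obtain ⟨P', e, he⟩ := exists_over hK Q
  have : P' = P := by
    by_contra hne
    obtain ⟨y, hy1, hy2⟩ := exists_v_le_one_lt P' P hne
    exact hy2.not_ge ((Valuation.HasExtension.val_map_le_one_iff P.1 Q.1 y).1 ((isOverWith_le_one_iff he y).2 hy1))
  exact this ▸ ⟨e, he⟩

include hK h in
/-- At a nonsingular place the residue field upstairs is generated by the constants. -/
theorem residue_adjoin_eq_top
    (hns : (integralClosure P.O K').toSubring = (Algebra.adjoin P.O (Set.range (algebraMap k' K'))).toSubring)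
    (Q : Place k K') [P.1.HasExtension Q.1] (hk' : ∀ c : k', Q.1 (algebraMap k' K' c) ≤ 1) :
    Algebra.adjoin (IsLocalRing.ResidueField P.O)
      (Set.range fun c : k' => IsLocalRing.residue Q.O ⟨algebraMap k' K' c, hk' c⟩) = ⊤ := by
  classical
  haveI := finite_of_surj h
  have hQP := isOver_of_hasExtension P hK.1 Q
  set T := Algebra.adjoin (IsLocalRing.ResidueField P.O)
      (Set.range fun c : k' => IsLocalRing.residue Q.O ⟨algebraMap k' K' c, hk' c⟩) with hT
  refine eq_top_iff.2 fun r _ => ?_
  obtain ⟨x, rfl⟩ := IsLocalRing.residue_surjective r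
  obtain ⟨y, hy⟩ := weak_approx (insert Q (overs hK.1 P)) (fun R => if R = Q then (x : K') else 0) (fun _ => 1)
  have hyQ := hy Q (Finset.mem_insert_self _ _)
  rw [if_pos rfl] at hyQ
  have hlt : Q.1 (y - (x : K')) < 1 := hyQ.trans_lt (by rw [← exp_zero, exp_lt_exp]; omega)
  have hQy : Q.1 y ≤ 1 := by
    have : y = (y - (x : K')) + x := by ring
    rw [this]
    exact (Q.1.map_add _ _).trans (max_le hlt.le x.2)
  have hyR : InR P y := fun R hR => by
    rcases eq_or_ne R Q with rfl | hne
    · exact hQy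
    · have h1 := hy R (Finset.mem_insert_of_mem ((mem_overs hK.1).2 hR))
      rw [if_neg hne, sub_zero] at h1
      exact h1.trans (by rw [← exp_zero, exp_le_exp]; omega)
  have hyA : y ∈ (Algebra.adjoin P.O (Set.range (algebraMap k' K'))).toSubring :=
    hns ▸ (isIntegral_of_inR hK.1 P hyR : y ∈ (integralClosure P.O K').toSubring)
  have hres : IsLocalRing.residue Q.O x = IsLocalRing.residue Q.O ⟨y, hQy⟩ := by
    refine (sub_eq_zero.1 ?_)
    rw [← map_sub, residue_eq_zero_iff_lt]
    rwa [AddSubgroupClass.coe_sub, ← Valuation.map_neg, neg_sub]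
  rw [hres]
  clear hres hlt hyR hyQ hy
  suffices main : ∃ hz : Q.1 y ≤ 1, IsLocalRing.residue Q.O ⟨y, hz⟩ ∈ T from main.2
  clear hQy
  induction hyA using Algebra.adjoin_induction with
  | mem z hz =>
    obtain ⟨c, rfl⟩ := hz
    exact ⟨hk' c, Algebra.subset_adjoin ⟨c, rfl⟩⟩
  | algebraMap c =>
    have e : algebraMap P.O K' c = algebraMap K K' (c : K) := IsScalarTower.algebraMap_apply P.O K K' c
    refine ⟨?_, ?_⟩
    · rw [e]; exact (Valuation.HasExtension.val_map_le_one_iff P.1 Q.1 _).2 c.2
    · have := Subalgebra.algebraMap_mem T (IsLocalRing.residue P.O c)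
      rw [Valuation.HasExtension.algebraMap_residue_eq_residue_algebraMap] at this
      convert this using 3
      exact e
  | add a b _ _ ha hb =>
    obtain ⟨ha1, ha2⟩ := ha
    obtain ⟨hb1, hb2⟩ := hb
    refine ⟨(Q.1.map_add _ _).trans (max_le ha1 hb1), ?_⟩
    have := add_mem ha2 hb2
    rwa [← map_add] at this
  | mul a b _ _ ha hb =>
    obtain ⟨ha1, ha2⟩ := ha
    obtain ⟨hb1, hb2⟩ := hb
    refine ⟨(map_mul Q.1 _ _).trans_le (mul_le_one' ha1 hb1), ?_⟩
    have := mul_mem ha2 hb2
    rwa [← map_mul] at this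

end Groth.Agent.GeomFFLib
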