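import Groth.Agent.FFLib.ExtClosure
import Groth.Prelude.Def_W4bk4goldsch45
import Mathlib.RingTheory.Unramified.Field
import Mathlib.LinearAlgebra.TensorProduct.RightExactness

/-! Integral closure of a place in a constant extension. -/

set_option autoImplicit false
universe u v

open TensorProduct FunFld Module WithZero Groth.Agent

namespace Groth.Agent.GeomFFLib

attribute [local instance 10000] Algebra.toModule

variable {k k' : Type u} {K K' : Type v} [Field k] [Field k'] [Field K] [Field K']
  [Algebra k k'] [FiniteDimensional k k'] [Algebra k K] [Algebra K K'] [Algebra k' K'] [Algebra k K']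
  [IsScalarTower k k' K'] [IsScalarTower k K K']
  (h : Function.Bijective (Algebra.TensorProduct.productMap
      (IsScalarTower.toAlgHom k k' K') (IsScalarTower.toAlgHom k K K')))

variable (k') (K') in
/-- The natural map `k' ⊗ O → K'`. -/
noncomputable def prodO (P : Place k K) : k' ⊗[k] P.O →+* K' :=
  ((Algebra.TensorProduct.productMap (IsScalarTower.toAlgHom k k' K') (IsScalarTower.toAlgHom k K K')).comp
    (Algebra.TensorProduct.map (AlgHom.id k k')
      ({ P.O.subtype with commutes' := fun _ => rfl } : P.O →ₐ[k] K))).toRingHom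

omit [FiniteDimensional k k'] in
theorem prodO_tmul (P : Place k K) (a : k') (c : P.O) :
    prodO k' K' P (a ⊗ₜ[k] c) = algebraMap k' K' a * algebraMap K K' c := by
  simp [prodO]

omit [FiniteDimensional k k'] in
include h in
theorem prodO_injective (P : Place k K) : Function.Injective (prodO k' K' P) :=
  h.1.comp (Module.Flat.lTensor_preserves_injective_linearMap _ Subtype.val_injective)

omit [FiniteDimensional k k'] in
theorem range_prodO (P : Place k K) [Algebra P.O K'] [IsScalarTower P.O K K'] :
    (prodO k' K' P).range = (Algebra.adjoin P.O (Set.range (algebraMap k' K'))).toSubring := by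
  refine le_antisymm ?_ ?_
  · rintro _ ⟨w, rfl⟩
    induction w using TensorProduct.induction_on with
    | zero => rw [map_zero]; exact zero_mem _
    | add a b ha hb => rw [map_add]; exact add_mem ha hb
    | tmul a c =>
      rw [prodO_tmul]
      exact mul_mem (Algebra.subset_adjoin ⟨a, rfl⟩)
        (by rw [show algebraMap K K' (c : K) = algebraMap P.O K' c from
              (IsScalarTower.algebraMap_apply P.O K K' c).symm]
            exact Subalgebra.algebraMap_mem _ c)
  · intro y hy
    induction hy using Algebra.adjoin_induction with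
    | mem z hz =>
      obtain ⟨a, rfl⟩ := hz
      exact ⟨a ⊗ₜ 1, by rw [prodO_tmul, OneMemClass.coe_one, map_one, mul_one]⟩
    | algebraMap c =>
      exact ⟨1 ⊗ₜ c, by rw [prodO_tmul, map_one, one_mul]; exact (IsScalarTower.algebraMap_apply P.O K K' c).symm⟩
    | add a b _ _ ha hb => exact add_mem ha hb
    | mul a b _ _ ha hb => exact mul_mem ha hb

theorem maximalIdeal_eq (P : Place k K) (t' : P.O) (htv : P.1 (t' : K) = exp (-1)) :
    IsLocalRing.maximalIdeal P.O = Ideal.span {t'} := by
  refine le_antisymm (fun c hc => ?_) ((Ideal.span_singleton_le_iff_mem _).2 fun hu => ?_)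
  · have hlt : P.1 (c : K) < 1 := lt_of_le_of_ne c.2 fun e =>
      hc ((Valuation.integer.integers P.1).isUnit_iff_valuation_eq_one.2 e)
    refine Ideal.mem_span_singleton.2 ((Valuation.integer.integers P.1).dvd_of_le ?_)
    show P.1 (c : K) ≤ P.1 (t' : K)
    rw [htv]
    rcases eq_or_ne (P.1 (c : K)) 0 with h0 | h0
    · rw [h0]; exact zero_le
    · have h7 := (WithZero.log_lt_iff_lt_exp h0).2 (hlt.trans_eq WithZero.exp_zero.symm)
      exact (WithZero.log_le_iff_le_exp h0).1 (by omega)
  · have h1 := (Valuation.integer.integers P.1).isUnit_iff_valuation_eq_one.1 hu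
    change P.1 (t' : K) = 1 at h1
    rw [htv, ← exp_zero, exp_inj] at h1
    omega

variable (P : Place k K) [IsReduced (k' ⊗[k] IsLocalRing.ResidueField P.O)]

omit [FiniteDimensional k k'] in
theorem dvd_of_pow_dvd {t : P.O} (ht : IsLocalRing.maximalIdeal P.O = Ideal.span {t})
    (w : k' ⊗[k] P.O) (m : ℕ) (hw : (1 : k') ⊗ₜ[k] t ∣ w ^ m) : (1 : k') ⊗ₜ[k] t ∣ w := by
  let r : P.O →ₐ[k] IsLocalRing.ResidueField P.O := { IsLocalRing.residue P.O with commutes' := fun _ => rfl }
  let ρ := Algebra.TensorProduct.map (AlgHom.id k k') r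
  have hker : RingHom.ker ρ = Ideal.span {(1 : k') ⊗ₜ[k] t} := by
    rw [Algebra.TensorProduct.lTensor_ker r IsLocalRing.residue_surjective]
    have hr : RingHom.ker r = IsLocalRing.maximalIdeal P.O := IsLocalRing.ker_residue
    rw [hr, ht, Ideal.map_span, Set.image_singleton]
    rfl
  rw [← Ideal.mem_span_singleton, ← hker, RingHom.mem_ker] at hw ⊢
  rw [map_pow] at hw
  exact eq_zero_of_pow_eq_zero hw

omit [FiniteDimensional k k'] in
theorem prodO_injective' (hinj : Function.Injective (Algebra.TensorProduct.productMap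
      (IsScalarTower.toAlgHom k k' K') (IsScalarTower.toAlgHom k K K'))) (P : Place k K) :
    Function.Injective (prodO k' K' P) :=
  hinj.comp (Module.Flat.lTensor_preserves_injective_linearMap _ Subtype.val_injective)

omit [FiniteDimensional k k'] in
theorem exists_prodO_eq (hinj : Function.Injective (Algebra.TensorProduct.productMap
      (IsScalarTower.toAlgHom k k' K') (IsScalarTower.toAlgHom k K K')))
    [Algebra P.O K'] [IsScalarTower P.O K K'] {y : K'}
    (hmem : y ∈ Set.range (Algebra.TensorProduct.productMap (IsScalarTower.toAlgHom k k' K')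
      (IsScalarTower.toAlgHom k K K'))) (hy : IsIntegral P.O y) : ∃ w, prodO k' K' P w = y := by
  obtain ⟨t, htv⟩ := P.2.2 (exp (-1))
  have htle : P.1 t ≤ 1 := by rw [htv, ← exp_zero, exp_le_exp]; omega
  let t' : P.O := ⟨t, htle⟩
  have ht0 : t ≠ 0 := fun e => by rw [e, map_zero] at htv; exact exp_ne_zero htv.symm
  have hmax : IsLocalRing.maximalIdeal P.O = Ideal.span {t'} := maximalIdeal_eq P t' htv
  have hex : ∀ z ∈ Set.range (Algebra.TensorProduct.productMap (IsScalarTower.toAlgHom k k' K')
      (IsScalarTower.toAlgHom k K K')), ∃ (w : k' ⊗[k] P.O) (n : ℕ), prodO k' K' P w = algebraMap K K' t ^ n * z := by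
    intro z hz
    obtain ⟨w₀, rfl⟩ := hz
    induction w₀ using TensorProduct.induction_on with
    | zero => exact ⟨0, 0, by simp⟩
    | tmul a c =>
      obtain ⟨n, hn⟩ : ∃ n : ℕ, P.1 (t ^ n * c) ≤ 1 := by
        rcases eq_or_ne c 0 with rfl | hc
        · exact ⟨0, by simp⟩
        · refine ⟨(log (P.1 c)).toNat, ?_⟩
          rw [map_mul, map_pow, htv, ← exp_nsmul]
          conv_lhs => rw [← exp_log ((Valuation.ne_zero_iff P.1).2 hc)]
          rw [← exp_add]
          refine le_of_le_of_eq (exp_le_exp.2 (?_ : _ ≤ (0 : ℤ))) exp_zero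
          rw [nsmul_eq_mul]
          simp only [log_exp]
          omega
      refine ⟨a ⊗ₜ ⟨_, hn⟩, n, ?_⟩
      rw [prodO_tmul]
      simp
      ring
    | add a b ha hb =>
      obtain ⟨w₁, n₁, h₁⟩ := ha
      obtain ⟨w₂, n₂, h₂⟩ := hb
      refine ⟨(1 ⊗ₜ t') ^ n₂ * w₁ + (1 ⊗ₜ t') ^ n₁ * w₂, n₁ + n₂, ?_⟩
      rw [map_add, map_mul, map_mul, map_pow, map_pow, prodO_tmul, map_one, one_mul, h₁, h₂, map_add]
      ring
  obtain ⟨w, n, hw⟩ := hex y hmem
  induction n generalizing w with
  | zero => exact ⟨w, by rw [hw, pow_zero, one_mul]⟩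
  | succ n ih =>
    obtain ⟨p, hp, hp0⟩ := hy
    have hdvd : (1 : k') ⊗ₜ[k] t' ∣ w ^ p.natDegree := by
      let ι : P.O →+* k' ⊗[k] P.O := Algebra.TensorProduct.includeRight.toRingHom
      refine ⟨-(∑ i ∈ Finset.range p.natDegree,
        ι (p.coeff i) * (ι t') ^ ((n + 1) * (p.natDegree - i) - 1) * (1 ⊗ₜ 1) ^ n * w ^ i), ?_⟩
      apply prodO_injective' hinj P
      have hι : ∀ c : P.O, prodO k' K' P (ι c) = algebraMap P.O K' c := fun c => by
        show prodO k' K' P (1 ⊗ₜ c) = _
        rw [prodO_tmul, map_one, one_mul, IsScalarTower.algebraMap_apply P.O K K']; rfl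
      have hT : algebraMap P.O K' t' = algebraMap K K' t := IsScalarTower.algebraMap_apply P.O K K' t'
      rw [Polynomial.eval₂_eq_sum_range, Finset.sum_range_succ, hp.coeff_natDegree, map_one, one_mul] at hp0
      rw [map_mul, map_neg, map_sum, map_pow, hw, mul_pow, eq_neg_of_add_eq_zero_right hp0,
        mul_neg, mul_neg, Finset.mul_sum, Finset.mul_sum, neg_inj, prodO_tmul, map_one, one_mul]
      refine Finset.sum_congr rfl fun i hi => ?_
      rw [Finset.mem_range] at hi
      rw [← Algebra.TensorProduct.one_def, one_pow, mul_one, map_mul, map_mul, map_pow, map_pow, hι, hι, hT, hw,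
        mul_pow, ← pow_mul, ← pow_mul]
      have he : (n + 1) * p.natDegree = 1 + ((n + 1) * (p.natDegree - i) - 1) + (n + 1) * i := by
        have : 0 < (n + 1) * (p.natDegree - i) := Nat.mul_pos n.succ_pos (by omega)
        have h2 : (n + 1) * p.natDegree = (n + 1) * (p.natDegree - i) + (n + 1) * i := by
          rw [← mul_add, Nat.sub_add_cancel hi.le]
        omega
      rw [he, pow_add, pow_add, pow_one]
      show _ = algebraMap K K' t * _
      ring
    obtain ⟨w', rfl⟩ := dvd_of_pow_dvd P hmax w _ hdvd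
    refine ih w' ?_
    rw [map_mul, prodO_tmul, map_one, one_mul, pow_succ', mul_assoc] at hw
    exact mul_left_cancel₀ ((map_ne_zero (algebraMap K K')).2 ht0) hw


include h in
theorem integralClosure_eq_adjoin [Algebra P.O K'] [IsScalarTower P.O K K'] :
    (integralClosure P.O K').toSubring = (Algebra.adjoin P.O (Set.range (algebraMap k' K'))).toSubring := by
  refine le_antisymm ?_ ?_
  · rw [← range_prodO]
    intro y hy
    exact exists_prodO_eq P h.1 (h.2 y) hy
  · intro y hy
    refine Algebra.adjoin_le (S := integralClosure P.O K') ?_ hy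
    rintro _ ⟨a, rfl⟩
    obtain ⟨q, hq, hq0⟩ := (IsIntegral.of_finite k a).map (IsScalarTower.toAlgHom k k' K')
    refine ⟨q.map (algebraMap k P.O), hq.map _, ?_⟩
    rw [Polynomial.eval₂_map]
    rw [show (algebraMap P.O K').comp (algebraMap k P.O) = algebraMap k K' from
      RingHom.ext fun c => ((IsScalarTower.algebraMap_apply P.O K K' _).trans
        (IsScalarTower.algebraMap_apply k K K' c).symm)]
    exact hq0

end Groth.Agent.GeomFFLib
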