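import Groth.Agent.GeomFFLib.Singular
import Mathlib.RingTheory.Etale.Field
import Mathlib.RingTheory.Unramified.Field
import Mathlib.FieldTheory.PurelyInseparable.PerfectClosure

/-! Separable residue fields after a finite purely inseparable extension of constants. -/

set_option autoImplicit false
universe u v w x

open TensorProduct FunFld Module WithZero Polynomial Groth.Agent Groth.Agent.FFLib

namespace Groth.Agent.GeomFFLib

attribute [local instance 10000] Algebra.toModule

section sepres

variable {k : Type u} {k' : Type u} {K : Type v} {K' : Type w} [Field k] [Field k'] [Field K] [Field K']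
  [Algebra k k'] [Algebra k K] [Algebra K K'] [Algebra k' K'] [Algebra k K']
  [IsScalarTower k k' K'] [IsScalarTower k K K']
  {kbar : Type u} {Kbar : Type x} [Field kbar] [Field Kbar]
  [Algebra k kbar] [Algebra K Kbar] [Algebra kbar Kbar] [Algebra k Kbar]
  [IsScalarTower k kbar Kbar] [IsScalarTower k K Kbar] [Algebra k' kbar] [IsScalarTower k k' kbar]
  (h : Function.Bijective (Algebra.TensorProduct.productMap
    (IsScalarTower.toAlgHom k k' K') (IsScalarTower.toAlgHom k K K')))
  (hb : Function.Bijective (Algebra.TensorProduct.productMap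
    (IsScalarTower.toAlgHom k kbar Kbar) (IsScalarTower.toAlgHom k K Kbar)))
  [Algebra.IsAlgebraic k' kbar] [Algebra.IsAlgebraic k k'] [PerfectField kbar]

include hb in
/-- Separability of the residue field below, given parameter, pole function and residue lifts. -/
theorem isSeparable_residue_of_lift (hK : FG1 k K) (hKb : FG1 kbar Kbar) (Q : Place k' K') (R : Place kbar Kbar)
    (hR : ∀ y : K', R.1 (liftHom kbar Kbar h y) ≤ 1 ↔ Q.1 y ≤ 1) {z f : K'} {m : ℕ} (hm : 0 < m)
    (hz : R.1 (liftHom kbar Kbar h z) = exp (-1 : ℤ))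
    (hf : pole (k := kbar) (liftHom kbar Kbar h f) = Finsupp.single R (m : ℤ))
    (htr : Transcendental kbar (liftHom kbar Kbar h f))
    (honly : ∀ R' : Place kbar Kbar, 1 < R'.1 (liftHom kbar Kbar h f) → R' = R)
    (A : Finset K') (hA : ∀ c : Kbar, R.1 c ≤ 1 →
      ∃ l : K' → kbar, R.1 (c - ∑ a ∈ A, l a • liftHom kbar Kbar h a) < 1)
    (hA1 : ∀ a ∈ A, R.1 (liftHom kbar Kbar h a) ≤ 1) :
    Algebra.IsSeparable k' (IsLocalRing.ResidueField Q.O) := by
  classical
  have hK' : FG1 k' K' := fg1_algExt h.2 hK
  have hle := deg_le_of_lift h hb hK hKb Q R hR hm hz hf htr honly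
  have hv := v_eq_of_lift h Q R hR hz
  set ψ := liftHom kbar Kbar h with hψ
  let g : Q.O →+* R.O := (ψ.toRingHom.comp Q.O.subtype).codRestrict R.O.toSubring
    fun c => (show R.1 (ψ (c : K')) ≤ 1 from (hv _) ▸ c.2)
  haveI : IsLocalHom g := ⟨fun c hc => (Valuation.integer.integers Q.1).isUnit_iff_valuation_eq_one.2 (by
    have h1 := (Valuation.integer.integers R.1).isUnit_iff_valuation_eq_one.1 hc
    exact (hv _).trans h1)⟩
  let φ : IsLocalRing.ResidueField Q.O →+* IsLocalRing.ResidueField R.O := IsLocalRing.ResidueField.map g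
  have hφ : ∀ c : Q.O, φ (IsLocalRing.residue Q.O c) = IsLocalRing.residue R.O (g c) := fun c => rfl
  have hφk : ∀ c : k', φ (algebraMap k' (IsLocalRing.ResidueField Q.O) c) =
      algebraMap kbar (IsLocalRing.ResidueField R.O) (algebraMap k' kbar c) := fun c => by
    show φ (IsLocalRing.residue Q.O (algebraMap k' Q.O c)) = IsLocalRing.residue R.O (algebraMap kbar R.O _)
    rw [hφ]
    exact congrArg _ (Subtype.ext (liftHom_const h c))
  haveI : Module.Finite k' (IsLocalRing.ResidueField Q.O) := finite_residue hK' Q
  haveI : Module.Finite kbar (IsLocalRing.ResidueField R.O) := finite_residue hKb R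
  have key : ∀ {ι : Type w} [Fintype ι] (r : Basis ι k' (IsLocalRing.ResidueField Q.O)),
      LinearIndependent kbar fun i => φ (r i) := by
    intro ι _ r
    have hspan : ∀ a : IsLocalRing.ResidueField Q.O, φ a ∈ Submodule.span kbar (Set.range fun i => φ (r i)) := fun a => by
      rw [← r.sum_repr a, map_sum]
      refine Submodule.sum_mem _ fun i _ => ?_
      rw [Algebra.smul_def, map_mul, hφk, ← Algebra.smul_def]
      exact Submodule.smul_mem _ _ (Submodule.subset_span ⟨i, rfl⟩)
    have htop : ⊤ ≤ Submodule.span kbar (Set.range fun i => φ (r i)) := fun c _ => by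
      obtain ⟨c0, rfl⟩ := IsLocalRing.residue_surjective c
      obtain ⟨l, hl⟩ := hA (c0 : Kbar) c0.2
      have e : IsLocalRing.residue R.O c0 = ∑ a ∈ A.attach, l a.1 • φ (IsLocalRing.residue Q.O
          ⟨a.1, show Q.1 a.1 ≤ 1 from (hR _).1 (hA1 a.1 a.2)⟩) := by
        simp only [Algebra.smul_def, hφ, show ∀ c : kbar, algebraMap kbar (IsLocalRing.ResidueField R.O) c =
          IsLocalRing.residue R.O (algebraMap kbar R.O c) from fun _ => rfl, ← map_mul, ← map_sum]
        rw [← sub_eq_zero, ← map_sub, residue_eq_zero_iff_lt]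
        rw [← Finset.sum_attach A] at hl
        simpa [Algebra.smul_def, g, coe_algebraMap_O] using hl
      rw [e]
      exact Submodule.sum_mem _ fun a _ => Submodule.smul_mem _ _ (hspan _)
    refine linearIndependent_of_top_le_span_of_card_eq_finrank htop ?_
    have h1 : finrank k' (IsLocalRing.ResidueField Q.O) = Q.deg := finrank_residue Q
    have h2 : finrank kbar (IsLocalRing.ResidueField R.O) = R.deg := finrank_residue R
    have h3 := finrank_eq_card_basis r
    have h4 : finrank kbar (IsLocalRing.ResidueField R.O) ≤ Fintype.card ι := by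
      rw [← finrank_top, ← top_le_iff.1 htop]
      exact finrank_range_le_card _
    omega
  refine ⟨fun a => ?_⟩
  have hint : IsIntegral k' a := IsIntegral.of_finite k' a
  have hint' : IsIntegral kbar (φ a) := IsIntegral.of_finite kbar (φ a)
  set r := (minpoly k' a).natDegree with hr
  have hli : LinearIndependent k' fun i : Fin r => a ^ (i : ℕ) := linearIndependent_pow a
  let B := Basis.extend hli.linearIndepOn_id
  haveI := FiniteDimensional.fintypeBasisIndex B
  have hli' : LinearIndependent kbar fun i : Fin r => φ a ^ (i : ℕ) := by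
    have h1 := key B
    have h2 := h1.comp (fun i : Fin r => ⟨a ^ (i : ℕ), Basis.subset_extend _ ⟨i, rfl⟩⟩)
      fun i j hij => hli.injective (congrArg Subtype.val hij)
    rw [show (fun i : Fin r => φ a ^ (i : ℕ)) = ((fun i => φ (B i)) ∘ fun i : Fin r => ⟨a ^ (i : ℕ), Basis.subset_extend _ ⟨i, rfl⟩⟩) from
      funext fun i => by simp [B, Basis.extend_apply_self]]
    exact h2
  have hdeg : r ≤ (minpoly kbar (φ a)).natDegree := by
    by_contra hlt
    push Not at hlt
    have h0 := minpoly.aeval kbar (φ a)
    rw [Polynomial.aeval_eq_sum_range' hlt, Finset.sum_range] at h0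
    have := Fintype.linearIndependent_iff.1 hli' (fun i => (minpoly kbar (φ a)).coeff i) h0 ⟨_, hlt⟩
    simp [(minpoly.monic hint').coeff_natDegree] at this
  have hmap : minpoly kbar (φ a) = (minpoly k' a).map (algebraMap k' kbar) := by
    refine (Polynomial.eq_of_monic_of_dvd_of_natDegree_le (minpoly.monic hint') ((minpoly.monic hint).map _)
      (minpoly.dvd kbar (φ a) ?_) (by rw [Polynomial.natDegree_map]; exact hdeg)).symm
    rw [Polynomial.aeval_def, Polynomial.eval₂_map,
      show (algebraMap kbar (IsLocalRing.ResidueField R.O)).comp (algebraMap k' kbar) =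
        φ.comp (algebraMap k' (IsLocalRing.ResidueField Q.O)) from RingHom.ext fun c => (hφk c).symm,
      ← Polynomial.hom_eval₂, ← Polynomial.aeval_def, minpoly.aeval, map_zero]
  show (minpoly k' a).Separable
  rw [← Polynomial.separable_map (algebraMap k' kbar), ← hmap]
  exact PerfectField.separable_of_irreducible (minpoly.irreducible hint')

end sepres

/-- A separable residue field makes the place nonsingular for every constant extension. -/
theorem nonsingular_of_separable {k k'' : Type u} {K L : Type v} [Field k] [Field k''] [Field K] [Field L]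
    [Algebra k k''] [FiniteDimensional k k''] [Algebra k K] [Algebra K L] [Algebra k'' L] [Algebra k L]
    [IsScalarTower k k'' L] [IsScalarTower k K L]
    (h : Function.Bijective (Algebra.TensorProduct.productMap
      (IsScalarTower.toAlgHom k k'' L) (IsScalarTower.toAlgHom k K L)))
    (Q : Place k K) [Algebra.IsSeparable k (IsLocalRing.ResidueField Q.O)]
    (hK : FG1 k K) :
    integralClosure (Q.O.toSubring.map (algebraMap K L)) L =
      Algebra.adjoin (Q.O.toSubring.map (algebraMap K L)) (Set.range (algebraMap k'' L)) := by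
  classical
  haveI : Module.Finite k (IsLocalRing.ResidueField Q.O) := finite_residue hK Q
  haveI : Algebra.FormallyUnramified k (IsLocalRing.ResidueField Q.O) := Algebra.FormallyUnramified.of_isSeparable k _
  haveI : IsReduced (k'' ⊗[k] IsLocalRing.ResidueField Q.O) :=
    Algebra.FormallyUnramified.isReduced_of_field k'' _
  letI : Algebra Q.O L := ((algebraMap K L).comp Q.O.subtype).toAlgebra
  haveI : IsScalarTower Q.O K L := IsScalarTower.of_algebraMap_eq fun _ => rfl
  have h1 := integralClosure_eq_adjoin h Q
  set R0 := Q.O.toSubring.map (algebraMap K L)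
  have hA : (Algebra.adjoin Q.O (Set.range (algebraMap k'' L))).toSubring ≤
      (Algebra.adjoin R0 (Set.range (algebraMap k'' L))).toSubring := fun y hy => by
    induction hy using Algebra.adjoin_induction with
    | mem a ha => exact Algebra.subset_adjoin ha
    | algebraMap c => exact Subalgebra.algebraMap_mem _ (⟨algebraMap K L (c : K), c, c.2, rfl⟩ : R0)
    | add a b _ _ ha hb => exact add_mem ha hb
    | mul a b _ _ ha hb => exact mul_mem ha hb
  refine le_antisymm (fun y hy => hA ?_) (Algebra.adjoin_le ?_)
  · rw [← h1]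
    obtain ⟨p, hp, hp0⟩ := hy
    have hl : p ∈ Polynomial.lifts ((algebraMap Q.O L).codRestrict R0 fun c => ⟨c, c.2, rfl⟩) := by
      rw [Polynomial.lifts_iff_coeff_lifts]
      intro i
      obtain ⟨c, hc, hci⟩ := (p.coeff i).2
      exact ⟨⟨c, hc⟩, Subtype.ext hci⟩
    obtain ⟨q, hq, -, hqm⟩ := Polynomial.lifts_and_degree_eq_and_monic hl hp
    refine ⟨q, hqm, ?_⟩
    rw [← hq, Polynomial.eval₂_map] at hp0
    exact hp0
  · rintro _ ⟨a, rfl⟩
    obtain ⟨q, hq, hq0⟩ := (IsIntegral.of_finite k a).map (IsScalarTower.toAlgHom k k'' L)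
    let f : k →+* R0 := (algebraMap k L).codRestrict R0 fun c =>
      ⟨algebraMap k K c, Q.2.1 c, (IsScalarTower.algebraMap_apply k K L c).symm⟩
    refine ⟨q.map f, hq.map _, ?_⟩
    rw [Polynomial.eval₂_map, show (algebraMap R0 L).comp f = algebraMap k L from RingHom.ext fun _ => rfl]
    exact hq0

section up

variable {k k' : Type u} {K : Type v} {L : Type w} [Field k] [Field k'] [Field K] [Field L]
  [Algebra k k'] [FiniteDimensional k k'] [Algebra k K] [Algebra K L] [Algebra k' L] [Algebra k L]
  [IsScalarTower k k' L] [IsScalarTower k K L]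
  {x : K} {ι : Type*} [Fintype ι] [DecidableEq ι]
  (b : Basis ι (IntermediateField.adjoin k ({x} : Set K)) K)
  {B : Basis ι (IntermediateField.adjoin k' ({algebraMap K L x} : Set L)) L}
  (hB : ∀ i, B i = algebraMap K L (b i))

omit [FiniteDimensional k k'] in
include hB in
theorem det_base_change :
    ((Matrix.det (Algebra.traceMatrix (IntermediateField.adjoin k' ({algebraMap K L x} : Set L)) B) :
      IntermediateField.adjoin k' ({algebraMap K L x} : Set L)) : L) =
    algebraMap K L ((Matrix.det (Algebra.traceMatrix (IntermediateField.adjoin k ({x} : Set K)) b) :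
      IntermediateField.adjoin k ({x} : Set K)) : K) := by
  have hTmap : Algebra.traceMatrix (IntermediateField.adjoin k' ({algebraMap K L x} : Set L)) B =
      (Algebra.traceMatrix (IntermediateField.adjoin k ({x} : Set K)) (b : ι → K)).map (adjoinMap k' L x) := by
    ext i j
    rw [Matrix.map_apply, Algebra.traceMatrix_apply, Algebra.traceMatrix_apply, Algebra.traceForm_apply,
      Algebra.traceForm_apply, hB, hB, ← map_mul, trace_base_change b hB]
  rw [hTmap, ← RingHom.mapMatrix_apply, ← RingHom.map_det]
  rfl

omit [FiniteDimensional k k'] in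
theorem intX_map {z : K} (hz : IntX (k := k) x z) : IntX (k := k') (algebraMap K L x) (algebraMap K L z) := by
  obtain ⟨p, hp, hp0⟩ := hz
  refine ⟨p.map (Polynomial.mapRingHom (algebraMap k k')), hp.map _, ?_⟩
  rw [Polynomial.eval₂_map]
  have e : (aeval (R := k') (algebraMap K L x)).toRingHom.comp (Polynomial.mapRingHom (algebraMap k k')) =
      (algebraMap K L).comp (aeval (R := k) x).toRingHom := RingHom.ext fun q => by
    show aeval (algebraMap K L x) (q.map (algebraMap k k')) = algebraMap K L (aeval x q)
    rw [aeval_map_algebraMap, ← aeval_algebraMap_apply]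
  rw [e, ← Polynomial.hom_eval₂]
  exact (congrArg (algebraMap K L) hp0).trans (map_zero _)

end up

end Groth.Agent.GeomFFLib
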