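import Groth.Agent.GeomFFLib.AlgExt
import Groth.Agent.FFLib.RR

/-! Small divisors over an algebraically closed field. -/

set_option autoImplicit false
universe u v

open FunFld Module WithZero Groth.Agent Groth.Agent.FFLib

namespace Groth.Agent.GeomFFLib

variable {k : Type u} {K : Type v} [Field k] [IsAlgClosed k] [Field K] [Algebra k K] (hK : IsFunctionField k K)

include hK in
theorem deg_single_alg (P : Place k K) (n : ℤ) : Divisor.deg (Finsupp.single P n) = n := by
  rw [deg_single, deg_eq_one_of_isAlgClosed hK.1 P, Nat.cast_one, mul_one]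

omit [IsAlgClosed k] in
theorem L_mono' {D E : Divisor k K} (h : ∀ R, D R ≤ E R) : L D ≤ L E :=
  fun _ hf R => (hf R).trans (exp_le_exp.2 (h R))

omit [IsAlgClosed k] in
theorem mem_L_inf {D E F : Divisor k K} (h : ∀ R, min (D R) (E R) ≤ F R) {f : K} (hD : f ∈ L D) (hE : f ∈ L E) :
    f ∈ L F := fun R => by
  have h' := h R
  rcases le_total (D R) (E R) with h1 | h1
  · exact (hD R).trans (exp_le_exp.2 (by omega))
  · exact (hE R).trans (exp_le_exp.2 (by omega))

include hK in
/-- A degree-zero divisor with a section is principal. -/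
theorem exists_div_of_deg_zero {E : Divisor k K} (hd : E.deg = 0) (he : 1 ≤ ell E) :
    ∃ f : K, f ≠ 0 ∧ ∀ R, R.ord f + E R = 0 := by
  have hne : L E ≠ ⊥ := fun e => by
    unfold ell at he
    rw [e, finrank_bot k K] at he
    omega
  obtain ⟨f, hf, hf0⟩ := Submodule.exists_mem_ne_zero_of_ne_bot hne
  have hnn : 0 ≤ FunFld.div k f + E := fun R => by
    have := (mem_L_iff hf0).1 hf R
    rw [Finsupp.add_apply, div_apply hK.1]
    simpa using this
  have h0 := eq_zero_of_deg_eq_zero hK hnn (by rw [deg_add, deg_div hK.1, hd]; rfl)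
  refine ⟨f, hf0, fun R => ?_⟩
  have h1 := congrArg (fun D : Divisor k K => D R) h0
  simpa only [Finsupp.add_apply, div_apply hK.1, Finsupp.zero_apply] using h1

include hK in
theorem one_le_ell_of_mem {E : Divisor k K} {f : K} (hf : f ∈ L E) (hf0 : f ≠ 0) : 1 ≤ ell E := by
  have := finiteDimensional_L hK.1 E
  exact Submodule.one_le_finrank_iff.2 ((Submodule.ne_bot_iff _).2 ⟨f, hf, hf0⟩)

include hK in
/-- If `L(nA)` consists of constants, the only effective divisor linearly equivalent to `nA` is `nA`. -/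
theorem eq_single_of_ell_one {A : Place k K} {n : ℤ} (hn : 0 ≤ n) (hA : ell (Finsupp.single A n) = 1)
    {F : Divisor k K} (hF : 0 ≤ F) {f : K} (hf0 : f ≠ 0)
    (hf : ∀ R, R.ord f + F R = (Finsupp.single A n : Divisor k K) R) : F = Finsupp.single A n := by
  classical
  have hfd := finiteDimensional_L hK.1 (Finsupp.single A n)
  have hfi : f⁻¹ ∈ L (Finsupp.single A n) := (mem_L_iff (inv_ne_zero hf0)).2 fun R => by
    rw [ord_inv, ← hf R]
    have h0 : 0 ≤ F R := hF R
    omega
  have heq : L (0 : Divisor k K) = L (Finsupp.single A n) := by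
    refine Submodule.eq_of_le_of_finrank_le (L_mono' fun R => ?_) ?_
    · rw [Finsupp.zero_apply, Finsupp.single_apply]; split_ifs <;> simp [hn]
    · have h0 := ell_zero hK
      unfold ell at hA h0
      omega
  have h1 : ∀ R : Place k K, 0 ≤ R.ord f⁻¹ := fun R => by
    have h0 := (mem_L_iff (inv_ne_zero hf0)).1 (heq.symm ▸ hfi : f⁻¹ ∈ L (0 : Divisor k K)) R
    rw [Finsupp.zero_apply, add_zero] at h0
    exact h0
  have hd : (FunFld.div k f⁻¹).deg = 0 := deg_div hK.1 _
  have hz := eq_zero_of_deg_eq_zero hK (D := FunFld.div k f⁻¹) (fun R => by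
    rw [div_apply hK.1]; exact h1 R) hd
  ext R
  have h2 := congrArg (fun D : Divisor k K => D R) hz
  simp only [div_apply hK.1, ord_inv, Finsupp.zero_apply] at h2
  have h3 := hf R
  omega

include hK in
theorem finrank_inf_le_succ (V : Submodule k K) (E : Divisor k K) (P : Place k K) :
    Module.finrank k ↥(V ⊓ L E) ≤ Module.finrank k ↥(V ⊓ L (E - Finsupp.single P 1)) + 1 := by
  classical
  have hle : ∀ R, (E - Finsupp.single P 1 : Divisor k K) R ≤ E R := fun R => by
    rw [Finsupp.sub_apply, Finsupp.single_apply]; split_ifs <;> omega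
  have := finiteDimensional_L hK.1 E
  have := finiteDimensional_L hK.1 (E - Finsupp.single P 1)
  have : FiniteDimensional k ↥(V ⊓ L E) := Submodule.finiteDimensional_of_le inf_le_right
  have h1 := Submodule.finrank_sup_add_finrank_inf_eq (V ⊓ L E) (L (E - Finsupp.single P 1))
  have h2 : Module.finrank k ↥((V ⊓ L E) ⊔ L (E - Finsupp.single P 1)) ≤ Module.finrank k (L E) :=
    Submodule.finrank_mono (sup_le inf_le_right (L_mono' hle))
  have h3 := ell_sub_le hK.1 (E - Finsupp.single P 1) E hle
  rw [deg_sub, deg_single_alg hK] at h3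
  have h4 : (V ⊓ L E) ⊓ L (E - Finsupp.single P 1) = V ⊓ L (E - Finsupp.single P 1) := by
    rw [inf_assoc, inf_eq_right.2 (L_mono' hle)]
  rw [h4] at h1
  unfold ell at h3
  omega

include hK in
theorem finiteDimensional_inf (V : Submodule k K) (E : Divisor k K) : FiniteDimensional k ↥(V ⊓ L E) := by
  have := finiteDimensional_L hK.1 E
  exact Submodule.finiteDimensional_of_le inf_le_right

end Groth.Agent.GeomFFLib
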