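import Groth.Agent.GeomFFLib.Basic
import Mathlib.FieldTheory.PurelyInseparable.Basic
import Mathlib.FieldTheory.KummerPolynomial

/-! The subfield `kK^p`. -/

set_option autoImplicit false
universe u v

open Polynomial FunFld Module

namespace Groth.Agent.GeomFFLib

variable {k : Type u} {K : Type v} [Field k] [Field K] [Algebra k K]
variable (p : ℕ) [Fact p.Prime] [CharP K p]

/-- The field `kK^p`. -/
abbrev M (k : Type u) (K : Type v) [Field k] [Field K] [Algebra k K] (p : ℕ) : IntermediateField k K :=
  IntermediateField.adjoin k (Set.range fun y : K => y ^ p)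

theorem D_eq_zero_of_mem {y : K} (hy : y ∈ M k K p) : KaehlerDifferential.D k K y = 0 := by
  induction hy using IntermediateField.adjoin_induction with
  | mem z hz =>
    obtain ⟨w, rfl⟩ := hz
    show KaehlerDifferential.D k K (w ^ p) = 0
    rw [Derivation.leibniz_pow, ← Nat.cast_smul_eq_nsmul K, CharP.cast_eq_zero, zero_smul]
  | algebraMap c => rw [Derivation.map_algebraMap]
  | add a b _ _ h h' => rw [map_add, h, h', add_zero]
  | inv a _ h => rw [Derivation.leibniz_inv, h, smul_zero]
  | mul a b _ _ h h' => rw [Derivation.leibniz, h, h', smul_zero, smul_zero, add_zero]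

theorem pow_mem (y : K) : y ^ p ∈ M k K p := IntermediateField.subset_adjoin k _ ⟨y, rfl⟩

theorem finrank_adjoin_eq {t : K} (ht : t ∉ M k K p) :
    finrank (M k K p) (IntermediateField.adjoin (M k K p) ({t} : Set K)) = p ∧
      IsIntegral (M k K p) t := by
  let a : M k K p := ⟨t ^ p, pow_mem p t⟩
  have hirr : Irreducible (X ^ p - C a : (M k K p)[X]) := X_pow_sub_C_irreducible_of_prime Fact.out fun b hb => by
    refine ht ?_
    have h1 : (b : K) ^ p = t ^ p := congrArg Subtype.val hb
    rw [← frobenius_inj K p h1]
    exact b.2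
  have hm : (X ^ p - C a : (M k K p)[X]).Monic := monic_X_pow_sub_C a (Fact.out : p.Prime).ne_zero
  have hz : aeval t (X ^ p - C a : (M k K p)[X]) = 0 := by
    rw [map_sub, map_pow, aeval_X, aeval_C]; exact sub_self _
  have hint : IsIntegral (M k K p) t := ⟨_, hm, hz⟩
  refine ⟨?_, hint⟩
  rw [IntermediateField.adjoin.finrank hint, ← minpoly.eq_of_irreducible_of_monic hirr hz hm, natDegree_X_pow_sub_C]

theorem isPurelyInseparable_M : IsPurelyInseparable (M k K p) K := by
  have : CharP (M k K p) p := charP_of_injective_ringHom (f := algebraMap (M k K p) K) (RingHom.injective _) p |> fun _ =>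
    (RingHom.charP_iff (algebraMap (M k K p) K) (RingHom.injective _) p).2 inferInstance
  have : ExpChar (M k K p) p := .prime Fact.out
  exact (isPurelyInseparable_iff_pow_mem (M k K p) p).2 fun y => ⟨1, ⟨⟨y ^ p, pow_mem p y⟩, by rw [pow_one]; rfl⟩⟩

theorem adjoin_eq_top_of_sep {t : K} (hs : Algebra.IsSeparable (IntermediateField.adjoin k ({t} : Set K)) K) :
    IntermediateField.adjoin (M k K p) ({t} : Set K) = ⊤ := by
  set N := IntermediateField.adjoin (M k K p) ({t} : Set K)
  have hle : IntermediateField.adjoin k ({t} : Set K) ≤ N.restrictScalars k :=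
    IntermediateField.adjoin_simple_le_iff.2 (IntermediateField.mem_adjoin_simple_self _ t)
  rw [eq_top_iff]
  intro y _
  have := isPurelyInseparable_M (k := k) (K := K) p
  have : IsPurelyInseparable N K := IsPurelyInseparable.tower_top (M k K p) N K
  let : Algebra (IntermediateField.adjoin k ({t} : Set K)) N := (IntermediateField.inclusion hle).toRingHom.toAlgebra
  have : IsScalarTower (IntermediateField.adjoin k ({t} : Set K)) N K := IsScalarTower.of_algebraMap_eq fun a => rfl
  have : Algebra.IsSeparable N K :=
    Algebra.isSeparable_tower_top_of_isSeparable (IntermediateField.adjoin k ({t} : Set K)) N K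
  obtain ⟨b, hb⟩ := IsPurelyInseparable.inseparable N y (Algebra.IsSeparable.isSeparable N y)
  rw [← hb]
  exact b.2

variable (hK : IsFunctionField k K) (hg : IsGeometric k K)

include hK hg in
theorem finrank_M : finrank (M k K p) K = p := by
  obtain ⟨t, ht⟩ := exists_separating hK hg
  have htM : t ∉ M k K p := fun h => (D_ne_zero_of_sep hK ht).1 (D_eq_zero_of_mem p h)
  have h := (finrank_adjoin_eq p htM).1
  rwa [adjoin_eq_top_of_sep p ht, IntermediateField.finrank_top'] at h

include hK hg in
theorem mem_M_iff {x : K} : x ∈ M k K p ↔ KaehlerDifferential.D k K x = 0 := by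
  refine ⟨D_eq_zero_of_mem p, fun hx => ?_⟩
  by_contra hne
  obtain ⟨h1, hint⟩ := finrank_adjoin_eq p hne
  have hfin : FiniteDimensional (M k K p) K :=
    Module.finite_of_finrank_pos (by rw [finrank_M p hK hg]; exact (Fact.out : p.Prime).pos)
  have htop : IntermediateField.adjoin (M k K p) ({x} : Set K) = ⊤ :=
    IntermediateField.eq_of_le_of_finrank_eq le_top (by rw [h1, IntermediateField.finrank_top', finrank_M p hK hg])
  obtain ⟨t, ht⟩ := exists_separating hK hg
  refine (D_ne_zero_of_sep hK ht).1 ?_
  have hmem : t ∈ IntermediateField.adjoin (M k K p) ({x} : Set K) := htop ▸ IntermediateField.mem_top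
  clear ht
  induction hmem using IntermediateField.adjoin_induction with
  | mem y hy => rw [Set.mem_singleton_iff.1 hy, hx]
  | algebraMap c => exact D_eq_zero_of_mem p c.2
  | add a b _ _ h h' => rw [map_add, h, h', add_zero]
  | inv a _ h => rw [Derivation.leibniz_inv, h, smul_zero]
  | mul a b _ _ h h' => rw [Derivation.leibniz, h, h', smul_zero, smul_zero, add_zero]

end Groth.Agent.GeomFFLib
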