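import Groth.Agent.FFLib.Geometric
import Mathlib.FieldTheory.PurelyInseparable.Basic

/-! Separable constant extensions preserve being a field. -/

set_option autoImplicit false
universe u v

open TensorProduct Polynomial

namespace Groth.Agent.GeomFFLib

variable {k : Type u} {K : Type v} [Field k] [Field K] [Algebra k K]

theorem isField_tensor_of_separable (hc : ∀ y : K, IsAlgebraic k y → y ∈ Set.range (algebraMap k K))
    (k' : Type*) [Field k'] [Algebra k k'] [FiniteDimensional k k'] [Algebra.IsSeparable k k'] :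
    IsField (k' ⊗[k] K) := by
  obtain ⟨α, hα⟩ := Field.exists_primitive_element k k'
  set f := minpoly k α with hf
  have hint : IsIntegral k α := IsIntegral.of_finite k α
  have hirr := FFLib.irreducible_map_of_alg_closed_in hc (minpoly.monic hint) (minpoly.irreducible hint)
  let φ : K[X] →+* k' ⊗[k] K :=
    Polynomial.eval₂RingHom (Algebra.TensorProduct.includeRight : K →ₐ[k] k' ⊗[k] K).toRingHom (α ⊗ₜ[k] 1)
  have hφ : ∀ q : k[X], φ (q.map (algebraMap k K)) = (aeval α q) ⊗ₜ[k] (1 : K) := fun q => by
    show Polynomial.eval₂ _ _ (q.map (algebraMap k K)) = _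
    rw [Polynomial.eval₂_map, show (Algebra.TensorProduct.includeRight : K →ₐ[k] k' ⊗[k] K).toRingHom.comp
      (algebraMap k K) = algebraMap k (k' ⊗[k] K) from
      RingHom.ext fun c => (Algebra.TensorProduct.includeRight : K →ₐ[k] k' ⊗[k] K).commutes c,
      ← Polynomial.aeval_def, show α ⊗ₜ[k] (1 : K) = (Algebra.TensorProduct.includeLeft : k' →ₐ[k] k' ⊗[k] K) α from rfl,
      Polynomial.aeval_algHom_apply]
    rfl
  have hsurj : Function.Surjective φ := by
    intro z
    induction z using TensorProduct.induction_on with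
    | zero => exact ⟨0, map_zero _⟩
    | tmul a c =>
      have ha : a ∈ Algebra.adjoin k ({α} : Set k') := by
        have h : a ∈ IntermediateField.adjoin k ({α} : Set k') := hα ▸ trivial
        rwa [← IntermediateField.mem_toSubalgebra,
          IntermediateField.adjoin_simple_toSubalgebra_of_isAlgebraic hint.isAlgebraic] at h
      rw [Algebra.adjoin_singleton_eq_range_aeval, AlgHom.mem_range] at ha
      obtain ⟨q, rfl⟩ := ha
      refine ⟨C c * q.map (algebraMap k K), ?_⟩
      rw [map_mul, hφ, show φ (C c) = (1 : k') ⊗ₜ[k] c from Polynomial.eval₂_C _ _,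
        Algebra.TensorProduct.tmul_mul_tmul, one_mul, mul_one]
    | add a b ha hb =>
      obtain ⟨p, rfl⟩ := ha
      obtain ⟨q, rfl⟩ := hb
      exact ⟨p + q, map_add _ _ _⟩
  have : Nontrivial (k' ⊗[k] K) :=
    (Algebra.TensorProduct.includeLeft_injective (S := k) (A := k') (algebraMap k K).injective).nontrivial
  have hker : RingHom.ker φ = Ideal.span {f.map (algebraMap k K)} := by
    have hmax : (Ideal.span {f.map (algebraMap k K)}).IsMaximal :=
      PrincipalIdealRing.isMaximal_of_irreducible hirr
    refine (hmax.eq_of_le (RingHom.ker_ne_top φ) ?_).symm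
    rw [Ideal.span_le, Set.singleton_subset_iff, SetLike.mem_coe, RingHom.mem_ker, hφ, minpoly.aeval,
      TensorProduct.zero_tmul]
  have hmax : (RingHom.ker φ).IsMaximal := by
    rw [hker]; exact PrincipalIdealRing.isMaximal_of_irreducible hirr
  exact (RingHom.quotientKerEquivOfSurjective hsurj).symm.toMulEquiv.isField
    ((Ideal.Quotient.maximal_ideal_iff_isField_quotient _).1 hmax)

theorem isField_tensor_of_purelyInseparable (Ls L : Type*) [Field Ls] [Field L] [Algebra k Ls] [Algebra k L]
    [Algebra Ls L] [IsScalarTower k Ls L] [IsPurelyInseparable Ls L] (hF : IsField (Ls ⊗[k] K))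
    [IsReduced (L ⊗[k] K)] : IsField (L ⊗[k] K) := by
  let e : (Ls ⊗[k] K) ⊗[Ls] L ≃+* L ⊗[k] K :=
    (Algebra.TensorProduct.comm Ls (Ls ⊗[k] K) L).toRingEquiv.trans
      (Algebra.TensorProduct.cancelBaseChange k Ls Ls L K).toRingEquiv
  have : IsReduced ((Ls ⊗[k] K) ⊗[Ls] L) := isReduced_of_injective e.toRingHom e.injective
  have : Nontrivial (L ⊗[k] K) :=
    (Algebra.TensorProduct.includeLeft_injective (S := k) (A := L) (algebraMap k K).injective).nontrivial
  have : Nontrivial ((Ls ⊗[k] K) ⊗[Ls] L) := e.toEquiv.nontrivial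
  refine e.symm.toMulEquiv.isField ⟨exists_pair_ne _, mul_comm, fun {z} hz => ?_⟩
  obtain ⟨n, hn, g, hg⟩ := IsPurelyInseparable.exists_pow_mem_range_tensorProduct (k := Ls) (K := L) z
  have hg0 : g ≠ 0 := fun h => hz (eq_zero_of_pow_eq_zero (n := n) (by rw [← hg, h, map_zero]))
  obtain ⟨g', hg'⟩ := hF.mul_inv_cancel hg0
  have hu : IsUnit (z ^ n) := hg ▸ (IsUnit.of_mul_eq_one g' hg').map (algebraMap (Ls ⊗[k] K) ((Ls ⊗[k] K) ⊗[Ls] L))
  exact ((isUnit_pow_iff hn.ne').1 hu).exists_right_inv

/-- A reduced tensor product with a field in which the base is algebraically closed is a field. -/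
theorem isField_tensor_of_isReduced (hc : ∀ y : K, IsAlgebraic k y → y ∈ Set.range (algebraMap k K))
    (L : Type*) [Field L] [Algebra k L] [FiniteDimensional k L] [IsReduced (L ⊗[k] K)] :
    IsField (L ⊗[k] K) :=
  have : IsPurelyInseparable (separableClosure k L) L := separableClosure.isPurelyInseparable k L
  isField_tensor_of_purelyInseparable (separableClosure k L) L
    (isField_tensor_of_separable hc (separableClosure k L))

end Groth.Agent.GeomFFLib
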