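import Groth.Agent.GeomFFLib.Conductor
import Groth.Agent.GeomFFLib.AlgExt
import Groth.Agent.FFLib.RR
import Mathlib.RingTheory.Discriminant
import Mathlib.RingTheory.Valuation.LocalSubring
import Mathlib.RingTheory.Localization.FractionRing
import Mathlib.RingTheory.IntegralClosure.IntegrallyClosed

/-! All but finitely many places are nonsingular. -/

set_option autoImplicit false
universe u v w

open TensorProduct FunFld Module WithZero Polynomial Groth.Agent Groth.Agent.FFLib

namespace Groth.Agent.GeomFFLib

attribute [local instance 10000] Algebra.toModule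

section integralCriterion

variable {k : Type u} {K : Type v} [Field k] [Field K] [Algebra k K]

/-- Integral over `k[x]`. -/
def IntX (x z : K) : Prop := (Polynomial.aeval (R := k) x).toRingHom.IsIntegralElem z

theorem v_le_one_of_intX {x z : K} (hz : IntX (k := k) x z) (P : Place k K) (hx : P.1 x ≤ 1) : P.1 z ≤ 1 := by
  have hmem : ∀ p : k[X], Polynomial.aeval x p ∈ P.O.toSubring := fun p => by
    induction p using Polynomial.induction_on' with
    | add a b ha hb => rw [map_add]; exact add_mem ha hb
    | monomial n a =>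
      rw [Polynomial.aeval_monomial]
      exact mul_mem (P.2.1 a) (pow_mem hx n)
  let f : k[X] →+* P.O := (Polynomial.aeval (R := k) x).toRingHom.codRestrict P.O.toSubring hmem
  obtain ⟨p, hp, hp0⟩ := hz
  have hint : IsIntegral P.O z := ⟨p.map f, hp.map f, by
    rw [Polynomial.eval₂_map]; exact hp0⟩
  obtain ⟨⟨y, hy⟩, rfl⟩ := IsIntegrallyClosed.isIntegral_iff.1 hint
  exact hy

theorem intX_of_forall_v_le (hK : FG1 k K) {x z : K}
    (h : ∀ P : Place k K, P.1 x ≤ 1 → P.1 z ≤ 1) : IntX (k := k) x z := by
  letI : Algebra k[X] K := (Polynomial.aeval (R := k) x).toRingHom.toAlgebra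
  by_contra hz
  have hzR : z ∉ (integralClosure k[X] K).toSubring := hz
  obtain ⟨V, hRV, hzV⟩ := Subring.exists_le_valuationSubring_of_isIntegrallyClosedIn hzR
  have hal : ∀ p : k[X], Polynomial.aeval x p ∈ V := fun p =>
    hRV (Subalgebra.algebraMap_mem (integralClosure k[X] K) p)
  obtain ⟨P, hP⟩ := exists_place_of_valuationSubring hK V (fun c => by simpa using hal (C c))
    (fun e => hzV (e ▸ trivial))
  have hx : P.1 x ≤ 1 := by
    have : x ∈ P.O := by rw [hP]; simpa using hal X
    exact this
  exact hzV (hP ▸ (h P hx : z ∈ P.O))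

/-- An element nonvanishing at `P`, vanishing to given orders elsewhere, with one allowed pole. -/
theorem exists_separating_element (hK : IsFunctionField k K) (P Pi0 : Place k K) (hne : P ≠ Pi0)
    (D : Divisor k K) (hDP : D P = 0) (hD0 : D Pi0 = 0) :
    ∃ s : K, P.1 s = 1 ∧ ∀ R : Place k K, R ≠ Pi0 → R.1 s ≤ exp (-(D R)) := by
  classical
  have hd := deg_pos hK.1 Pi0
  have hdP := deg_pos hK.1 P
  set N : ℕ := (2 * (genus k K : ℤ) + D.deg + P.deg).toNat
  set A : Divisor k K := Finsupp.single Pi0 (N : ℤ) - D with hA
  set B : Divisor k K := A - Finsupp.single P 1 with hB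
  have hdegA : A.deg = (N : ℤ) * Pi0.deg - D.deg := by rw [hA, deg_sub, deg_single]
  have hdegB : B.deg = A.deg - P.deg := by rw [hB, deg_sub, deg_single, one_mul]
  have hN : (N : ℤ) ≤ (N : ℤ) * Pi0.deg := le_mul_of_one_le_right (Int.natCast_nonneg _) (by exact_mod_cast hd)
  have h1 := ell_eq_of_deg_ge hK (D := A) (by omega)
  have h2 := ell_eq_of_deg_ge hK (D := B) (by omega)
  obtain ⟨s, hsA, hsB⟩ : ∃ s ∈ L A, s ∉ L B := by
    by_contra hh
    push Not at hh
    have := finiteDimensional_L hK.1 B
    have h3 : ell A ≤ ell B := Submodule.finrank_mono fun s hs => hh s hs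
    omega
  refine ⟨s, le_antisymm ?_ (not_lt.1 fun hlt => hsB fun R => ?_), fun R hR => ?_⟩
  · have := hsA P
    rwa [hA, Finsupp.sub_apply, Finsupp.single_eq_of_ne hne, hDP, sub_zero, exp_zero] at this
  · rcases eq_or_ne R P with rfl | hRP
    · rw [hB, Finsupp.sub_apply, hA, Finsupp.sub_apply, Finsupp.single_eq_of_ne hne, hDP, Finsupp.single_eq_same]
      exact le_exp_neg_one_of_lt_one hlt
    · rw [hB, Finsupp.sub_apply, Finsupp.single_eq_of_ne hRP, sub_zero]
      exact hsA R
  · have := hsA R
    rwa [hA, Finsupp.sub_apply, Finsupp.single_eq_of_ne hR, zero_sub] at this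

end integralCriterion

section good

variable {k k' : Type u} {K : Type v} {L : Type w} [Field k] [Field k'] [Field K] [Field L]
  [Algebra k k'] [FiniteDimensional k k'] [Algebra k K] [Algebra K L] [Algebra k' L] [Algebra k L]
  [IsScalarTower k k' L] [IsScalarTower k K L]
  (h : Function.Bijective (Algebra.TensorProduct.productMap
      (IsScalarTower.toAlgHom k k' L) (IsScalarTower.toAlgHom k K L)))

omit [FiniteDimensional k k'] in
include h in
theorem linearIndependent_algebraMap {ι : Type*} {v : ι → K} (hv : LinearIndependent k v) :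
    LinearIndependent k' fun i => algebraMap K L (v i) := by
  classical
  let π := Algebra.TensorProduct.productMap (IsScalarTower.toAlgHom k k' L) (IsScalarTower.toAlgHom k K L)
  let πl : (k' ⊗[k] K) →ₗ[k'] L :=
    { toFun := π
      map_add' := map_add π
      map_smul' := fun c x => by
        rw [Algebra.smul_def, Algebra.smul_def, map_mul, RingHom.id_apply]
        congr 1
        simp [π] }
  let b := Basis.sumExtend hv
  let B := Algebra.TensorProduct.basis k' b
  have hli : LinearIndependent k' fun i => (1 : k') ⊗ₜ[k] v i := by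
    have := B.linearIndependent.comp Sum.inl Sum.inl_injective
    rw [show (fun i => (1 : k') ⊗ₜ[k] v i) = (B ∘ Sum.inl) from funext fun i => by
      simp [B, b, Algebra.TensorProduct.basis_apply, Basis.sumExtend]
      rfl]
    convert this
  have := hli.map' πl (LinearMap.ker_eq_bot.2 h.1)
  rw [show (fun i => algebraMap K L (v i)) = (πl ∘ fun i => (1 : k') ⊗ₜ[k] v i) from funext fun i => by
    simp [πl, π]]
  exact this

variable (x : K)

omit [FiniteDimensional k k'] in
theorem algebraMap_adjoin_mem (a : IntermediateField.adjoin k ({x} : Set K)) :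
    algebraMap K L a ∈ IntermediateField.adjoin k' ({algebraMap K L x} : Set L) := by
  have hle : (IntermediateField.adjoin k ({x} : Set K)).map (IsScalarTower.toAlgHom k K L) ≤
      (IntermediateField.adjoin k' ({algebraMap K L x} : Set L)).restrictScalars k := by
    rw [IntermediateField.adjoin_map, Set.image_singleton, IntermediateField.adjoin_simple_le_iff]
    exact IntermediateField.mem_adjoin_simple_self k' _
  exact hle ⟨a, a.2, rfl⟩

variable (k') (L) in
/-- `k(x) → k'(x)`. -/
noncomputable def adjoinMap : IntermediateField.adjoin k ({x} : Set K) →+*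
    IntermediateField.adjoin k' ({algebraMap K L x} : Set L) :=
  ((algebraMap K L).comp (IntermediateField.adjoin k ({x} : Set K)).val.toRingHom).codRestrict
    (IntermediateField.adjoin k' ({algebraMap K L x} : Set L)) (algebraMap_adjoin_mem x)

variable {x} (hx : Transcendental k x) {ι : Type*} [Fintype ι] [DecidableEq ι]
  (b : Basis ι (IntermediateField.adjoin k ({x} : Set K)) K)

include h hx in
theorem exists_basisExt :
    ∃ B : Basis ι (IntermediateField.adjoin k' ({algebraMap K L x} : Set L)) L,
      ∀ i, B i = algebraMap K L (b i) := by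
  classical
  haveI : Algebra.IsAlgebraic k k' := Algebra.IsAlgebraic.of_finite k k'
  have hx' : Transcendental k' (algebraMap K L x) := transcendental_algExt hx
  set F' := IntermediateField.adjoin k' ({algebraMap K L x} : Set L) with hF'
  have hli : LinearIndependent F' fun i => algebraMap K L (b i) := by
    rw [Fintype.linearIndependent_iff]
    intro c hc j₀
    have hrep : ∀ j, ∃ p q : k'[X], q ≠ 0 ∧ (c j : L) * aeval (algebraMap K L x) q = aeval (algebraMap K L x) p := by
      intro j
      obtain ⟨p, q, hpq⟩ := (IntermediateField.mem_adjoin_simple_iff k' (c j : L)).1 (c j).2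
      by_cases hq : aeval (algebraMap K L x) q = 0
      · refine ⟨0, 1, one_ne_zero, ?_⟩
        rw [hpq, hq, div_zero, zero_mul, map_zero]
      · exact ⟨p, q, fun e => hq (by rw [e, map_zero]), by rw [hpq, div_mul_cancel₀ _ hq]⟩
    choose p q hq hpq using hrep
    let P : ι → k'[X] := fun j => p j * ∏ l ∈ Finset.univ.erase j, q l
    have hsum : ∑ j, aeval (algebraMap K L x) (P j) * algebraMap K L (b j) = 0 := by
      have : ∀ j, aeval (algebraMap K L x) (P j) * algebraMap K L (b j) =
          (∏ l, aeval (algebraMap K L x) (q l)) * ((c j : L) * algebraMap K L (b j)) := fun j => by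
        rw [← Finset.mul_prod_erase _ _ (Finset.mem_univ j)]
        simp only [P, map_mul, map_prod, ← hpq]
        ring
      rw [Finset.sum_congr rfl fun j _ => this j, ← Finset.mul_sum]
      simp only [Algebra.smul_def] at hc
      rw [show ∑ j, (c j : L) * algebraMap K L (b j) = 0 from hc, mul_zero]
    obtain ⟨N, hN⟩ : ∃ N, ∀ j, (P j).natDegree < N :=
      ⟨Finset.univ.sup (fun j => (P j).natDegree) + 1, fun j =>
        Nat.lt_succ_of_le (Finset.le_sup (f := fun j => (P j).natDegree) (Finset.mem_univ j))⟩
    have hind : LinearIndependent k fun z : ι × Fin N => x ^ (z.2 : ℕ) * b z.1 := by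
      rw [Fintype.linearIndependent_iff]
      intro g hg0 z
      rw [Fintype.sum_prod_type] at hg0
      have hg1 : ∀ j, ∑ i : Fin N, g (j, i) • x ^ (i : ℕ) = 0 := by
        have h3 := Fintype.linearIndependent_iff.1 b.linearIndependent
          (fun j => (⟨∑ i : Fin N, g (j, i) • x ^ (i : ℕ), sum_mem fun i _ =>
            IntermediateField.smul_mem _ (pow_mem (IntermediateField.mem_adjoin_simple_self k x) _)⟩ :
              IntermediateField.adjoin k ({x} : Set K))) (by
            refine Eq.trans (Finset.sum_congr rfl fun j _ => ?_) hg0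
            rw [Algebra.smul_def]
            show (∑ i : Fin N, g (j, i) • x ^ (i : ℕ)) * b j = _
            rw [Finset.sum_mul]
            exact Finset.sum_congr rfl fun i _ => smul_mul_assoc _ _ _)
        exact fun j => congrArg Subtype.val (h3 j)
      exact Fintype.linearIndependent_iff.1
        (((Polynomial.basisMonomials k).linearIndependent.map' (aeval x).toLinearMap
          (LinearMap.ker_eq_bot.2 (transcendental_iff_injective.1 hx))).comp (Fin.val : Fin N → ℕ) Fin.val_injective)
        (fun i => g (z.1, i)) (by simpa [Polynomial.aeval_monomial] using hg1 z.1) z.2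
    have hcoef := Fintype.linearIndependent_iff.1 (linearIndependent_algebraMap h hind)
      (fun z => (P z.1).coeff z.2) (by
        rw [Fintype.sum_prod_type]
        refine Eq.trans (Finset.sum_congr rfl fun j _ => ?_) hsum
        rw [Polynomial.aeval_eq_sum_range' (hN j), Finset.sum_mul, Finset.sum_range]
        exact Finset.sum_congr rfl fun i _ => by rw [map_mul, map_pow, smul_mul_assoc])
    have hP : P j₀ = 0 := Polynomial.ext fun i => by
      rcases lt_or_ge i N with hi | hi
      · simpa using hcoef (j₀, ⟨i, hi⟩)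
      · simpa using Polynomial.coeff_eq_zero_of_natDegree_lt ((hN j₀).trans_le hi)
    have hp : p j₀ = 0 := (mul_eq_zero.1 hP).resolve_right (Finset.prod_ne_zero_iff.2 fun l _ => hq l)
    have h4 := hpq j₀
    rw [hp, map_zero] at h4
    exact Subtype.ext ((mul_eq_zero.1 h4).resolve_right fun e => hq j₀ ((transcendental_iff.1 hx') _ e))
  refine ⟨Basis.mk hli fun z _ => ?_, fun i => Basis.mk_apply _ _ i⟩
  obtain ⟨w, rfl⟩ := h.2 z
  induction w using TensorProduct.induction_on with
  | zero => rw [map_zero]; exact zero_mem _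
  | add a c ha hc => rw [map_add]; exact add_mem (ha trivial) (hc trivial)
  | tmul a c =>
    rw [Algebra.TensorProduct.productMap_apply_tmul, IsScalarTower.coe_toAlgHom', IsScalarTower.coe_toAlgHom',
      ← b.sum_repr c, map_sum, Finset.mul_sum]
    refine Submodule.sum_mem _ fun i _ => ?_
    have : algebraMap k' L a * algebraMap K L (b.repr c i • b i) =
        (⟨algebraMap k' L a * algebraMap K L (b.repr c i : K),
          mul_mem (F'.algebraMap_mem a) (algebraMap_adjoin_mem x _)⟩ : F') • algebraMap K L (b i) := by
      rw [Algebra.smul_def, Algebra.smul_def, map_mul]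
      exact (mul_assoc _ _ _).symm
    rw [this]
    exact Submodule.smul_mem _ _ (Submodule.subset_span ⟨i, rfl⟩)

variable {B : Basis ι (IntermediateField.adjoin k' ({algebraMap K L x} : Set L)) L}
  (hB : ∀ i, B i = algebraMap K L (b i))

omit [FiniteDimensional k k'] in
include hB in
theorem trace_base_change (z : K) :
    Algebra.trace (IntermediateField.adjoin k' ({algebraMap K L x} : Set L)) L (algebraMap K L z) =
      adjoinMap k' L x (Algebra.trace (IntermediateField.adjoin k ({x} : Set K)) K z) := by
  rw [Algebra.trace_eq_matrix_trace B, Algebra.trace_eq_matrix_trace b, AddMonoidHom.map_trace]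
  congr 1
  ext i j
  rw [Matrix.map_apply, Algebra.leftMulMatrix_eq_repr_mul, Algebra.leftMulMatrix_eq_repr_mul]
  have : algebraMap K L z * B j = ∑ l, adjoinMap k' L x (b.repr (z * b j) l) • B l := by
    conv_lhs => rw [hB, ← map_mul, ← b.sum_repr (z * b j), map_sum]
    refine Finset.sum_congr rfl fun l _ => ?_
    rw [Algebra.smul_def, Algebra.smul_def, map_mul, hB]
    rfl
  rw [this, Basis.repr_sum_self]

/-- The discriminant criterion. -/
def Good (P : Place k K) : Prop :=
  P.1 x ≤ 1 ∧ P.1 ((Matrix.det (Algebra.traceMatrix (IntermediateField.adjoin k ({x} : Set K)) b) :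
      IntermediateField.adjoin k ({x} : Set K)) : K) = 1

include h hx in
/-- An element integral over `k[x]` has, after multiplication by the discriminant, integral coordinates. -/
theorem det_mul_mem (hb : ∀ i, IntX (k := k) x (b i)) (P : Place k K) (hxP : P.1 x ≤ 1) {y : L}
    (hy : ((algebraMap K L).comp (aeval (R := k) x).toRingHom).IsIntegralElem y) :
    algebraMap K L ((Matrix.det (Algebra.traceMatrix (IntermediateField.adjoin k ({x} : Set K)) b) :
      IntermediateField.adjoin k ({x} : Set K)) : K) * y ∈
        Algebra.adjoin (P.O.toSubring.map (algebraMap K L)) (Set.range (algebraMap k' L)) := by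
  classical
  haveI : Algebra.IsAlgebraic k k' := Algebra.IsAlgebraic.of_finite k k'
  set F' := IntermediateField.adjoin k' ({algebraMap K L x} : Set L) with hF'
  obtain ⟨B, hB⟩ : ∃ B : Basis ι F' L, ∀ i, B i = algebraMap K L (b i) := exists_basisExt h hx b
  haveI : FiniteDimensional F' L := B.finiteDimensional_of_finite
  have hx' : Transcendental k' (algebraMap K L x) := transcendental_algExt hx
  let xF : F' := ⟨algebraMap K L x, IntermediateField.mem_adjoin_simple_self k' _⟩
  letI : Algebra k'[X] F' := (aeval (R := k') xF).toRingHom.toAlgebra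
  letI : Algebra k'[X] L := ((algebraMap F' L).comp (aeval (R := k') xF).toRingHom).toAlgebra
  haveI : IsScalarTower k'[X] F' L := IsScalarTower.of_algebraMap_eq fun _ => rfl
  have hAF : ∀ p : k'[X], ((algebraMap k'[X] F' p : F') : L) = aeval (algebraMap K L x) p := fun p => by
    show ((aeval (R := k') xF p : F') : L) = _
    rw [← IntermediateField.coe_val, ← aeval_algHom_apply]; rfl
  haveI : FaithfulSMul k'[X] F' := (faithfulSMul_iff_algebraMap_injective _ _).2 fun p q e =>
    transcendental_iff_injective.1 hx' (by rw [← hAF, ← hAF, e])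
  haveI : IsFractionRing k'[X] F' := IsFractionRing.of_field k'[X] F' fun z => by
    obtain ⟨p, q, hpq⟩ := (IntermediateField.mem_adjoin_simple_iff k' (z : L)).1 z.2
    exact ⟨p, q, Subtype.ext (by rw [hpq, IntermediateField.coe_div, hAF, hAF])⟩
  -- integrality over `k[x]` goes up
  have up : ∀ w : L, ((algebraMap K L).comp (aeval (R := k) x).toRingHom).IsIntegralElem w → IsIntegral k'[X] w := by
    rintro w ⟨p, hp, hp0⟩
    refine ⟨p.map (Polynomial.mapRingHom (algebraMap k k')), hp.map _, ?_⟩
    rw [Polynomial.eval₂_map]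
    have e : (algebraMap k'[X] L).comp (Polynomial.mapRingHom (algebraMap k k')) =
        (algebraMap K L).comp (aeval (R := k) x).toRingHom := RingHom.ext fun q => by
      show ((algebraMap k'[X] F' (q.map (algebraMap k k')) : F') : L) = algebraMap K L (aeval x q)
      rw [hAF, aeval_map_algebraMap, ← aeval_algebraMap_apply]
    rw [e]
    exact hp0
  have hbint : ∀ i, IsIntegral k'[X] (B i) := fun i => up _ (by
    obtain ⟨p, hp, hp0⟩ := hb i
    refine ⟨p, hp, ?_⟩
    rw [hB, ← Polynomial.hom_eval₂, hp0, map_zero])
  have hcl : ∀ c : F', IsIntegral k'[X] c → ∃ p : k'[X], algebraMap k'[X] F' p = c := fun c hc =>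
    IsIntegrallyClosed.isIntegral_iff.1 hc
  set T := Algebra.traceMatrix F' (B : ι → L) with hT
  have hTint : ∀ i j, IsIntegral k'[X] (T i j) := fun i j => by
    rw [hT, Algebra.traceMatrix_apply, Algebra.traceForm_apply]
    exact Algebra.isIntegral_trace ((hbint i).mul (hbint j))
  have hTmap : T = (Algebra.traceMatrix (IntermediateField.adjoin k ({x} : Set K)) (b : ι → K)).map (adjoinMap k' L x) := by
    ext i j
    rw [hT, Matrix.map_apply, Algebra.traceMatrix_apply, Algebra.traceMatrix_apply, Algebra.traceForm_apply,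
      Algebra.traceForm_apply, hB, hB, ← map_mul, trace_base_change b hB]
  have hdet : ((T.det : F') : L) = algebraMap K L ((Matrix.det (Algebra.traceMatrix
      (IntermediateField.adjoin k ({x} : Set K)) b) : IntermediateField.adjoin k ({x} : Set K)) : K) := by
    rw [hTmap, ← RingHom.mapMatrix_apply, ← RingHom.map_det]
    rfl
  set c := B.equivFun y with hc
  set t : ι → F' := fun i => Algebra.trace F' L (y * B i) with ht
  have hmul : T.mulVec c = t := Algebra.traceMatrix_of_basis_mulVec B y
  have hdc : T.det • c = T.adjugate.mulVec t := by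
    rw [← hmul, Matrix.mulVec_mulVec, Matrix.adjugate_mul, Matrix.smul_mulVec, Matrix.one_mulVec]
  have hint : ∀ i, IsIntegral k'[X] ((T.det • c) i) := fun i => by
    rw [hdc]
    refine IsIntegral.sum _ fun j _ => IsIntegral.mul ?_ (Algebra.isIntegral_trace ((up y hy).mul (hbint j)))
    show IsIntegral k'[X] (T.adjugate i j)
    rw [Matrix.adjugate_apply]
    refine IsIntegral.det fun a b' => ?_
    rw [Matrix.updateRow_apply]
    split_ifs
    · rw [Pi.single_apply]
      split_ifs
      · exact isIntegral_one
      · exact isIntegral_zero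
    · exact hTint _ _
  choose p hp using fun i => hcl _ (hint i)
  set R := Algebra.adjoin (P.O.toSubring.map (algebraMap K L)) (Set.range (algebraMap k' L)) with hR
  have hbase : ∀ a : K, P.1 a ≤ 1 → algebraMap K L a ∈ R := fun a ha =>
    R.algebraMap_mem ⟨algebraMap K L a, a, ha, rfl⟩
  have hkey : algebraMap K L ((Matrix.det (Algebra.traceMatrix (IntermediateField.adjoin k ({x} : Set K)) b) :
      IntermediateField.adjoin k ({x} : Set K)) : K) * y = ∑ i, aeval (algebraMap K L x) (p i) * algebraMap K L (b i) := by
    rw [← hdet]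
    conv_lhs => rw [← B.sum_equivFun y, Finset.mul_sum]
    refine Finset.sum_congr rfl fun i _ => ?_
    rw [← hAF, hp, Algebra.smul_def, hB, ← mul_assoc]
    rfl
  rw [hkey]
  refine sum_mem fun i _ => mul_mem ?_ (hbase _ (v_le_one_of_intX (hb i) P hxP))
  rw [Polynomial.aeval_eq_sum_range]
  refine sum_mem fun j _ => ?_
  rw [Algebra.smul_def]
  exact mul_mem (Algebra.subset_adjoin ⟨_, rfl⟩) (pow_mem (hbase x hxP) _)

include h hx in
/-- At a good place the integral closure is generated by the constants. -/
theorem nonsingular_of_good (hK : IsFunctionField k K) (hb : ∀ i, IntX (k := k) x (b i))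
    (P : Place k K) (hgood : Good b P) :
    integralClosure (P.O.toSubring.map (algebraMap K L)) L =
      Algebra.adjoin (P.O.toSubring.map (algebraMap K L)) (Set.range (algebraMap k' L)) := by
  classical
  set R0 := P.O.toSubring.map (algebraMap K L) with hR0
  refine le_antisymm (fun y hy => ?_) (Algebra.adjoin_le ?_)
  swap
  · rintro _ ⟨a, rfl⟩
    obtain ⟨q, hq, hq0⟩ := (IsIntegral.of_finite k a).map (IsScalarTower.toAlgHom k k' L)
    let f : k →+* R0 := (algebraMap k L).codRestrict R0 fun c =>
      ⟨algebraMap k K c, P.2.1 c, (IsScalarTower.algebraMap_apply k K L c).symm⟩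
    refine ⟨q.map f, hq.map _, ?_⟩
    rw [Polynomial.eval₂_map, show (algebraMap R0 L).comp f = algebraMap k L from RingHom.ext fun _ => rfl]
    exact hq0
  obtain ⟨p, hp, hp0⟩ := hy
  choose c hcP hc using fun i => (p.coeff i).2
  obtain ⟨Pinf, hPinf⟩ := exists_pole_of_tr hK.1 hx
  have hx0 : x ≠ 0 := by rintro rfl; exact hx isAlgebraic_zero
  have hPinf1 : 1 < Pinf.1 x := by rw [v_eq Pinf hx0, ← exp_zero, exp_lt_exp]; omega
  have hne : P ≠ Pinf := fun e => (hgood.1.trans_lt hPinf1).ne (by rw [e])
  let M := Finset.range (p.natDegree + 1)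
  let D : Divisor k K := Finsupp.filter (fun R => R ≠ Pinf) (∑ i ∈ M, pole (k := k) (c i))
  have hpoleP : ∀ i, pole (k := k) (c i) P = 0 := fun i => by
    rw [pole_apply hK.1]
    rcases eq_or_ne (c i) 0 with h0 | h0
    · simp [h0, Place.ord]
    · have := hcP i
      change P.1 (c i) ≤ 1 at this
      rw [v_eq P h0, ← exp_zero, exp_le_exp] at this
      omega
  obtain ⟨s, hsP, hs⟩ := exists_separating_element hK P Pinf hne D
    (by simp [D, hne, Finsupp.finsetSum_apply, hpoleP]) (by simp [D])
  have hDR : ∀ R : Place k K, R ≠ Pinf → D R = ∑ i ∈ M, pole (k := k) (c i) R := fun R hR => by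
    simp only [D, Finsupp.filter_apply, Finsupp.finsetSum_apply, if_pos hR]
  have hsne : ∀ R : Place k K, R.1 x ≤ 1 → R ≠ Pinf := fun R hR e => (hR.trans_lt hPinf1).ne (by rw [e])
  have hs1 : ∀ R : Place k K, R.1 x ≤ 1 → R.1 s ≤ 1 := fun R hR => by
    refine (hs R (hsne R hR)).trans ?_
    rw [← exp_zero, exp_le_exp]
    rw [hDR R (hsne R hR)]
    have : 0 ≤ ∑ i ∈ M, pole (k := k) (c i) R := Finset.sum_nonneg fun i _ => by rw [pole_apply hK.1]; exact le_max_right _ _
    omega
  have hsc : ∀ i ∈ M, IntX (k := k) x (s * c i) := fun i hi => intX_of_forall_v_le hK.1 fun R hR => by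
    rcases eq_or_ne (c i) 0 with h0 | h0
    · simp [h0]
    rw [map_mul]
    refine (mul_le_mul' (hs R (hsne R hR)) (v_eq R h0).le).trans ?_
    rw [← exp_add, ← exp_zero, exp_le_exp]
    rw [hDR R (hsne R hR)]
    have h1 : pole (k := k) (c i) R ≤ ∑ j ∈ M, pole (k := k) (c j) R :=
      Finset.single_le_sum (f := fun j => pole (k := k) (c j) R) (fun j _ => by rw [pole_apply hK.1]; exact le_max_right _ _) hi
    rw [pole_apply hK.1] at h1
    omega
  have hsI : IntX (k := k) x s := intX_of_forall_v_le hK.1 hs1
  letI : Algebra k[X] L := ((algebraMap K L).comp (aeval (R := k) x).toRingHom).toAlgebra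
  have hup : ∀ a : K, IntX (k := k) x a → IsIntegral k[X] (algebraMap K L a) := by
    rintro a ⟨q, hq, hq0⟩
    exact ⟨q, hq, by
      rw [show algebraMap k[X] L = (algebraMap K L).comp (aeval (R := k) x).toRingHom from rfl,
        ← Polynomial.hom_eval₂, hq0, map_zero]⟩
  have hmon : c p.natDegree = 1 := (algebraMap K L).injective (by
    rw [hc, map_one, show p.coeff p.natDegree = 1 from hp.coeff_natDegree]; rfl)
  have hsy : IsIntegral k[X] (algebraMap K L s * y) := by
    rcases Nat.eq_zero_or_pos p.natDegree with h0 | hpos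
    · rw [hp.natDegree_eq_zero.1 h0] at hp0
      exact absurd (show (1 : L) = 0 by simpa using hp0) one_ne_zero
    have hcoef : ∀ i < p.natDegree, algebraMap K L (s ^ (p.natDegree - i) * c i) ∈ integralClosure k[X] L := by
      intro i hi
      obtain ⟨j, hj⟩ : ∃ j, p.natDegree - i = j + 1 := ⟨p.natDegree - i - 1, by omega⟩
      rw [hj, pow_succ, mul_assoc, map_mul, map_pow]
      exact mul_mem (pow_mem (hup s hsI) j) (hup _ (hsc i (Finset.mem_range.2 (by omega))))
    set C' := integralClosure k[X] L
    refine isIntegral_trans (A := C') _ ?_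
    refine ⟨X ^ p.natDegree + ∑ i : Fin p.natDegree, C (⟨_, hcoef i i.2⟩ : C') * X ^ (i : ℕ),
      monic_X_pow_add ((degree_sum_le _ _).trans_lt ((Finset.sup_lt_iff (WithBot.bot_lt_coe _)).2 fun i _ =>
        (degree_C_mul_X_pow_le _ _).trans_lt (by exact_mod_cast i.2))), ?_⟩
    rw [eval₂_add, eval₂_pow, eval₂_X, eval₂_finsetSum]
    rw [Polynomial.eval₂_eq_sum_range, Finset.sum_range_succ, hp.coeff_natDegree, map_one, one_mul, Finset.sum_range] at hp0
    have := congrArg (fun z => algebraMap K L s ^ p.natDegree * z) hp0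
    simp only [mul_zero] at this
    refine Eq.trans ?_ this
    rw [mul_add, mul_pow, add_comm, Finset.mul_sum]
    congr 1
    refine Finset.sum_congr rfl fun i _ => ?_
    rw [eval₂_mul, eval₂_C, eval₂_pow, eval₂_X, mul_pow]
    show algebraMap K L (s ^ (p.natDegree - i) * c i) * _ = _ * (((p.coeff i : R0) : L) * _)
    rw [map_mul, map_pow, hc, ← mul_assoc]
    have e : algebraMap K L s ^ p.natDegree = algebraMap K L s ^ (p.natDegree - (i : ℕ)) * algebraMap K L s ^ (i : ℕ) := by
      rw [← pow_add, Nat.sub_add_cancel i.2.le]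
    rw [e]
    ring
  have hmem := det_mul_mem h hx b hb P hgood.1 hsy
  set d := ((Matrix.det (Algebra.traceMatrix (IntermediateField.adjoin k ({x} : Set K)) b) :
      IntermediateField.adjoin k ({x} : Set K)) : K)
  have hv : P.1 (d * s)⁻¹ ≤ 1 := by rw [map_inv₀, map_mul, hgood.2, hsP, mul_one, inv_one]
  have hne0 : algebraMap K L (d * s) ≠ 0 := (_root_.map_ne_zero _).2 fun e => by
    have := congrArg P.1 e
    rw [map_mul, hgood.2, hsP, map_zero, mul_one] at this
    exact one_ne_zero this
  rw [← mul_assoc, ← map_mul] at hmem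
  have := mul_mem (Subalgebra.algebraMap_mem (Algebra.adjoin R0 (Set.range (algebraMap k' L)))
    ⟨algebraMap K L (d * s)⁻¹, _, hv, rfl⟩) hmem
  rw [show algebraMap R0 L ⟨algebraMap K L (d * s)⁻¹, _, hv, rfl⟩ = (algebraMap K L (d * s))⁻¹ from (map_inv₀ (algebraMap K L) (d * s) :),
    ← mul_assoc, inv_mul_cancel₀ hne0, one_mul] at this
  exact this

end good

section exists_data

variable {k : Type u} {K : Type v} [Field k] [Field K] [Algebra k K]

/-- A separating variable with an integral basis, and finitely many bad places. -/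
theorem exists_good_data' (hK : IsFunctionField k K) (hg : IsGeometric k K) :
    ∃ (x : K) (_ : Transcendental k x) (n : ℕ) (b : Basis (Fin n) (IntermediateField.adjoin k ({x} : Set K)) K),
      (∀ i, IntX (k := k) x (b i)) ∧
      ((Matrix.det (Algebra.traceMatrix (IntermediateField.adjoin k ({x} : Set K)) b) :
        IntermediateField.adjoin k ({x} : Set K)) : K) ≠ 0 ∧ {P : Place k K | ¬ Good b P}.Finite := by
  classical
  obtain ⟨x, hsep⟩ := exists_separating hK hg
  have hx := transcendental_of_sep hK hsep
  set F := IntermediateField.adjoin k ({x} : Set K) with hF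
  have hfin : FiniteDimensional F K := finite_adjoin' hK hx
  let xF : F := ⟨x, IntermediateField.mem_adjoin_simple_self k x⟩
  letI : Algebra k[X] F := (aeval (R := k) xF).toRingHom.toAlgebra
  letI : Algebra k[X] K := (aeval (R := k) x).toRingHom.toAlgebra
  have hAF : ∀ p : k[X], ((algebraMap k[X] F p : F) : K) = aeval x p := fun p => by
    show ((aeval (R := k) xF p : F) : K) = _
    rw [← IntermediateField.coe_val, ← aeval_algHom_apply]; rfl
  haveI : IsScalarTower k[X] F K := IsScalarTower.of_algebraMap_eq fun p => (hAF p).symm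
  haveI : FaithfulSMul k[X] F := (faithfulSMul_iff_algebraMap_injective _ _).2 fun p q e =>
    transcendental_iff_injective.1 hx (by rw [← hAF, ← hAF, e])
  haveI : IsFractionRing k[X] F := IsFractionRing.of_field k[X] F fun z => by
    obtain ⟨p, q, hpq⟩ := (IntermediateField.mem_adjoin_simple_iff k (z : K)).1 z.2
    exact ⟨p, q, Subtype.ext (by rw [hpq, IntermediateField.coe_div, hAF, hAF])⟩
  haveI : Algebra.IsAlgebraic k[X] K := (IsFractionRing.comap_isAlgebraic_iff (A := k[X]) (K := F) (C := K)).2 (Algebra.IsAlgebraic.of_finite F K)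
  let b0 := Module.finBasis F K
  obtain ⟨d, hd0, hd⟩ := Algebra.IsAlgebraic.exists_integral_multiples (R := k[X]) (Finset.univ.image b0)
  have hdF : (algebraMap k[X] F d) ≠ 0 := (map_ne_zero_iff _ (FaithfulSMul.algebraMap_injective k[X] F)).2 hd0
  let b := b0.isUnitSMul (w := fun _ => algebraMap k[X] F d) fun _ => isUnit_iff_ne_zero.2 hdF
  have hδ' : ((Matrix.det (Algebra.traceMatrix F b) : F) : K) ≠ 0 := by
    have := Algebra.discr_not_zero_of_basis F b
    rw [Algebra.discr_def] at this
    exact fun e => this (Subtype.ext e)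
  refine ⟨x, hx, _, b, fun i => ?_, hδ', ?_⟩
  · have := hd (b0 i) (Finset.mem_image_of_mem _ (Finset.mem_univ i))
    rw [Basis.isUnitSMul_apply, algebraMap_smul]
    exact this
  · set δ : K := ((Matrix.det (Algebra.traceMatrix F b) : F) : K)
    have hδ : δ ≠ 0 := hδ'
    refine ((finite_support_ord hK.1 x).union (finite_support_ord hK.1 δ)).subset fun P hP => ?_
    by_contra hh
    rw [Set.mem_union, Function.mem_support, Function.mem_support, not_or, not_not, not_not] at hh
    have hx0 : x ≠ 0 := by rintro rfl; exact hx isAlgebraic_zero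
    refine hP ⟨?_, ?_⟩
    · rw [v_eq P hx0, hh.1, neg_zero, exp_zero]
    · show P.1 δ = 1
      rw [v_eq P hδ, hh.2, neg_zero, exp_zero]

/-- A separating variable with an integral basis, and finitely many bad places. -/
theorem exists_good_data (hK : IsFunctionField k K) (hg : IsGeometric k K) :
    ∃ (x : K) (_ : Transcendental k x) (n : ℕ) (b : Basis (Fin n) (IntermediateField.adjoin k ({x} : Set K)) K),
      (∀ i, IntX (k := k) x (b i)) ∧ {P : Place k K | ¬ Good b P}.Finite :=
  let ⟨x, hx, n, b, hb, _, hfin⟩ := exists_good_data' hK hg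
  ⟨x, hx, n, b, hb, hfin⟩

end exists_data

end Groth.Agent.GeomFFLib
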