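import Groth.Agent.GeomFFLib.Tower
import Groth.Agent.GeomFFLib.SepPlaces
import Groth.Agent.TraceResLib.Hurwitz
import Mathlib.FieldTheory.PurelyInseparable.Basic
import Mathlib.LinearAlgebra.Dimension.Constructions

/-! Places over a nonsingular place in a splitting field. -/

set_option autoImplicit false
universe u v

open TensorProduct FunFld Module WithZero Groth.Agent Groth.Agent.FFLib

namespace Groth.Agent.GeomFFLib

attribute [local instance 10000] Algebra.toModule

section res
variable {F : Type u} {L : Type v} [Field F] [Field L] [Algebra F L]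

/-- The value at a rational place. -/
theorem exists_value (hL : FG1 F L) (Q : Place F L) (hd : Q.deg = 1) :
    ∃ ev : Q.O →+* F, ∀ y : Q.O, Q.1 ((y : L) - algebraMap F L (ev y)) < 1 := by
  have : Module.Finite F (IsLocalRing.ResidueField Q.O) := finite_residue hL Q
  have h1 : finrank F (IsLocalRing.ResidueField Q.O) = 1 := (finrank_residue Q).trans hd
  let e := (Algebra.ofId F (IsLocalRing.ResidueField Q.O))
  have hb : Function.Bijective e := by
    refine ⟨e.toRingHom.injective, fun z => ?_⟩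
    obtain ⟨c, hc⟩ := (finrank_eq_one_iff_of_nonzero' (1 : IsLocalRing.ResidueField Q.O) one_ne_zero).1 h1 z
    exact ⟨c, by rw [← hc, Algebra.smul_def, mul_one]; rfl⟩
  refine ⟨(RingEquiv.ofBijective e.toRingHom hb).symm.toRingHom.comp (IsLocalRing.residue Q.O), fun y => ?_⟩
  set c := ((RingEquiv.ofBijective e.toRingHom hb).symm.toRingHom.comp (IsLocalRing.residue Q.O)) y with hc
  have h2 : IsLocalRing.residue Q.O (algebraMap F Q.O c) = IsLocalRing.residue Q.O y :=
    (RingEquiv.ofBijective e.toRingHom hb).apply_symm_apply (IsLocalRing.residue Q.O y)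
  have := (residue_eq_zero_iff_lt Q (y - algebraMap F Q.O c)).1 (by rw [map_sub, h2, sub_self])
  rwa [AddSubgroupClass.coe_sub, coe_algebraMap_O] at this

end res

variable {k k' : Type u} {K K' : Type v} [Field k] [Field k'] [Field K] [Field K']
  [Algebra k k'] [FiniteDimensional k k'] [Algebra k K] [Algebra K K'] [Algebra k' K'] [Algebra k K']
  [IsScalarTower k k' K'] [IsScalarTower k K K']
  (h : Function.Bijective (Algebra.TensorProduct.productMap
      (IsScalarTower.toAlgHom k k' K') (IsScalarTower.toAlgHom k K K')))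
  (hK : IsFunctionField k K) (P : Place k K)
  (hns : ∀ y : K', (∀ R : Place k K', IsOver R P → R.1 y ≤ 1) → ∃ w, prodO k' K' P w = y)
  (hsplit : ∀ Q : Place k' K', (∃ e : ℕ, ∀ z : K, Q.1 (algebraMap K K' z) = P.1 z ^ e) → Q.deg = 1)

include h hK hns hsplit in
theorem places_over_splitting :
    {Q : Place k' K' | ∃ e : ℕ, ∀ z : K, Q.1 (algebraMap K K' z) = P.1 z ^ e}.Finite ∧
    {Q : Place k' K' | ∃ e : ℕ, ∀ z : K, Q.1 (algebraMap K K' z) = P.1 z ^ e}.ncard =
      Field.finSepDegree k (IsLocalRing.ResidueField P.O) ∧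
    ∀ Q : Place k' K', (∃ e : ℕ, ∀ z : K, Q.1 (algebraMap K K' z) = P.1 z ^ e) →
      ∀ z : K, Q.1 (algebraMap K K' z) =
        P.1 z ^ Module.finrank (separableClosure k (IsLocalRing.ResidueField P.O)) (IsLocalRing.ResidueField P.O) := by
  classical
  haveI : FiniteDimensional K K' := finite_of_surj h.2
  haveI : Algebra.IsAlgebraic k k' := Algebra.IsAlgebraic.of_finite k k'
  set T := {Q : Place k' K' | ∃ e : ℕ, ∀ z : K, Q.1 (algebraMap K K' z) = P.1 z ^ e} with hT
  set pl := TraceResLib.placesEquiv (k' := k') (K' := K') k with hpl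
  have hTiff : ∀ Q, Q ∈ T ↔ pl Q ∈ overs hK.1 P := fun Q => by rw [mem_overs hK.1]; rfl
  have hTfin : T.Finite := ((overs hK.1 P).finite_toSet.preimage pl.injective.injOn).subset fun Q hQ => (hTiff Q).1 hQ
  have hK' : FG1 k' K' := by
    obtain ⟨x, hx, hxfin⟩ := fg1_ext (K' := K') hK.1
    refine ⟨x, fun halg => hx (halg.restrictScalars k), ?_⟩
    have hle : IntermediateField.adjoin k ({x} : Set K') ≤
        (IntermediateField.adjoin k' ({x} : Set K')).restrictScalars k := by
      rw [IntermediateField.adjoin_simple_le_iff]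
      exact IntermediateField.mem_adjoin_simple_self k' x
    let _ : Algebra (IntermediateField.adjoin k ({x} : Set K')) (IntermediateField.adjoin k' ({x} : Set K')) :=
      (IntermediateField.inclusion hle).toRingHom.toAlgebra
    have : IsScalarTower (IntermediateField.adjoin k ({x} : Set K')) (IntermediateField.adjoin k' ({x} : Set K')) K' :=
      IsScalarTower.of_algebraMap_eq fun _ => rfl
    exact Module.Finite.of_restrictScalars_finite (IntermediateField.adjoin k ({x} : Set K')) _ _
  set π := prodO k' K' P with hπ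
  have hπinj : Function.Injective π := prodO_injective h P
  -- the image of `π` consists of elements integral at every place over `P`
  have hπR : ∀ w, ∀ Q ∈ T, Q.1 (π w) ≤ 1 := fun w Q hQ => by
    obtain ⟨e, he⟩ := hQ
    induction w using TensorProduct.induction_on with
    | zero => simp
    | tmul a c =>
      rw [hπ, prodO_tmul, map_mul, he]
      exact mul_le_one' (Q.2.1 a) (pow_le_one' c.2 e)
    | add a b ha hb => rw [map_add]; exact (Q.1.map_add _ _).trans (max_le ha hb)
  have hns' : ∀ y : K', (∀ Q ∈ T, Q.1 y ≤ 1) → ∃ w, π w = y := fun y hy => hns y fun R hR => by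
    have h1 := hy (pl.symm R) ((hTiff _).2 (by rw [Equiv.apply_symm_apply]; exact (mem_overs hK.1).2 hR))
    exact h1
  have approx : ∀ (g : Place k' K' → ℤ), (∀ Q, 0 ≤ g Q) → ∃ w, ∀ Q ∈ T, Q.1 (π w) = exp (-(g Q)) := by
    intro g hg0
    obtain ⟨y, hy⟩ := weak_approx_eq (k := k) (overs hK.1 P) (fun _ => 0) (fun R => g (pl.symm R))
    have hy' : ∀ Q ∈ T, Q.1 y = exp (-(g Q)) := fun Q hQ => by
      have := hy (pl Q) ((hTiff Q).1 hQ)
      rw [sub_zero, Equiv.symm_apply_apply] at this
      exact this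
    obtain ⟨w, hw⟩ := hns' y fun Q hQ => by
      rw [hy' Q hQ, ← exp_zero, exp_le_exp]; have := hg0 Q; omega
    exact ⟨w, fun Q hQ => by rw [hw, hy' Q hQ]⟩
  -- values
  have hev : ∀ Q ∈ T, ∃ σ : IsLocalRing.ResidueField P.O →ₐ[k] k',
      ∀ c : P.O, Q.1 (algebraMap K K' (c : K) - algebraMap k' K' (σ (IsLocalRing.residue P.O c))) < 1 := by
    intro Q hQ
    obtain ⟨ev, hev⟩ := exists_value hK' Q (hsplit Q hQ)
    obtain ⟨e, he⟩ := hQ
    have he0 : e ≠ 0 := by
      rintro rfl
      have := he 0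
      simp at this
    have hmem : ∀ c : P.O, algebraMap K K' (c : K) ∈ Q.O := fun c =>
      show Q.1 _ ≤ 1 by rw [he]; exact pow_le_one' c.2 e
    let f : P.O →+* k' := ev.comp (((algebraMap K K').comp P.O.subtype).codRestrict Q.O.toSubring hmem)
    have huniq : ∀ (y : Q.O) (a : k'), Q.1 ((y : K') - algebraMap k' K' a) < 1 → ev y = a := fun y a hy => by
      by_contra hne
      have h2 : Q.1 (algebraMap k' K' (a - ev y)) < 1 := by
        rw [map_sub, show algebraMap k' K' a - algebraMap k' K' (ev y) =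
          ((y : K') - algebraMap k' K' (ev y)) - ((y : K') - algebraMap k' K' a) by ring]
        exact (Q.1.map_sub _ _).trans_lt (max_lt (hev y) hy)
      rw [v_const Q (sub_ne_zero.2 (Ne.symm hne))] at h2
      exact lt_irrefl _ h2
    have hker : ∀ c ∈ IsLocalRing.maximalIdeal P.O, f c = 0 := fun c hc => huniq _ 0 (by
      rw [map_zero, sub_zero]
      show Q.1 (algebraMap K K' (c : K)) < 1
      rw [he]
      rw [← IsLocalRing.ker_residue, RingHom.mem_ker, residue_eq_zero_iff_lt] at hc
      exact pow_lt_one₀ zero_le hc he0)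
    let σ₀ : IsLocalRing.ResidueField P.O →+* k' := Ideal.Quotient.lift _ f hker
    have hσ : ∀ c, σ₀ (IsLocalRing.residue P.O c) = f c := fun c => rfl
    refine ⟨{ σ₀ with commutes' := fun a => ?_ }, fun c => by
      show Q.1 (_ - algebraMap k' K' (σ₀ (IsLocalRing.residue P.O c))) < 1
      rw [hσ]
      exact hev ⟨_, hmem c⟩⟩
    show σ₀ (IsLocalRing.residue P.O (algebraMap k P.O a)) = _
    rw [hσ]
    refine huniq _ _ ?_
    show Q.1 (algebraMap K K' (algebraMap k K a) - algebraMap k' K' (algebraMap k k' a)) < 1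
    rw [← IsScalarTower.algebraMap_apply, ← IsScalarTower.algebraMap_apply, sub_self, map_zero]
    exact zero_lt_one
  obtain ⟨Q₁, hQ₁⟩ : T.Nonempty := by
    by_contra hne
    rw [Set.not_nonempty_iff_eq_empty] at hne
    have hempty : overs (K' := K') hK.1 P = ∅ := Finset.eq_empty_of_forall_notMem fun R hR => by
      have h2 : pl.symm R ∈ T := (hTiff _).2 (by rwa [Equiv.apply_symm_apply])
      rw [hne] at h2
      exact h2
    have h1 := sum_idx_mul_deg (K' := K') hK.1 P (overs hK.1 P) (fun Q => mem_overs hK.1)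
    rw [hempty, Finset.sum_empty] at h1
    exact (Nat.mul_ne_zero (finrank_pos (R := K) (M := K')).ne' (deg_pos hK.1 P).ne') h1.symm
  haveI : Nonempty (IsLocalRing.ResidueField P.O →ₐ[k] k') := ⟨(hev Q₁ hQ₁).choose⟩
  choose! σ hσ using hev
  let r : P.O →ₐ[k] IsLocalRing.ResidueField P.O := { IsLocalRing.residue P.O with commutes' := fun _ => rfl }
  let χ : Place k' K' → (k' ⊗[k] P.O →ₐ[k] k') := fun Q => Algebra.TensorProduct.productMap (AlgHom.id k k') ((σ Q).comp r)
  have hχ : ∀ Q ∈ T, ∀ w, Q.1 (π w - algebraMap k' K' (χ Q w)) < 1 := fun Q hQ w => by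
    induction w using TensorProduct.induction_on with
    | zero => simp
    | tmul a c =>
      rw [hπ, prodO_tmul]
      simp only [χ, Algebra.TensorProduct.productMap_apply_tmul, AlgHom.id_apply, AlgHom.comp_apply, map_mul, ← mul_sub]
      exact (mul_le_of_le_one_left zero_le (Q.2.1 a)).trans_lt (hσ Q hQ c)
    | add a b ha hb =>
      rw [map_add, map_add, map_add, add_sub_add_comm]
      exact (Q.1.map_add _ _).trans_lt (max_lt ha hb)
  have hlt_iff : ∀ Q ∈ T, ∀ w, Q.1 (π w) < 1 ↔ χ Q w = 0 := fun Q hQ w => by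
    constructor
    · intro hw
      by_contra hne
      have h2 : Q.1 (algebraMap k' K' (χ Q w)) < 1 := by
        rw [show algebraMap k' K' (χ Q w) = π w - (π w - algebraMap k' K' (χ Q w)) by ring]
        exact (Q.1.map_sub _ _).trans_lt (max_lt hw (hχ Q hQ w))
      rw [v_const Q hne] at h2
      exact lt_irrefl _ h2
    · intro hw
      simpa [hw] using hχ Q hQ w
  -- distinct places give distinct values
  have hσinj : Set.InjOn σ T := fun Q hQ Q' hQ' e => by
    by_contra hne
    obtain ⟨w, hw⟩ := approx (fun R => if R = Q then 1 else 0) (fun R => by split_ifs <;> simp)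
    have h1 : χ Q w = 0 := (hlt_iff Q hQ w).1 (by rw [hw Q hQ, if_pos rfl, ← exp_zero, exp_lt_exp]; omega)
    rw [show χ Q = χ Q' by simp only [χ, e]] at h1
    have h2 := (hlt_iff Q' hQ' w).2 h1
    rw [hw Q' hQ', if_neg (Ne.symm hne), neg_zero, exp_zero] at h2
    exact lt_irrefl _ h2
  haveI : Module.Finite k (IsLocalRing.ResidueField P.O) := finite_residue hK.1 P
  haveI : Algebra.IsAlgebraic k (IsLocalRing.ResidueField P.O) := Algebra.IsAlgebraic.of_finite k _
  set Fs := separableClosure k (IsLocalRing.ResidueField P.O) with hFs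
  haveI : IsPurelyInseparable Fs (IsLocalRing.ResidueField P.O) := separableClosure.isPurelyInseparable k _
  have hsinj : Set.InjOn (fun Q => (σ Q).comp Fs.val) T := fun Q hQ Q' hQ' e => by
    refine hσinj hQ hQ' (AlgHom.coe_ringHom_injective ?_)
    exact IsPurelyInseparable.injective_comp_algebraMap Fs (IsLocalRing.ResidueField P.O) k'
      (RingHom.ext fun z => AlgHom.congr_fun e z)
  obtain ⟨t, ht⟩ : ∃ t : P.O, P.1 (t : K) = exp (-1 : ℤ) := by
    obtain ⟨t₀, -, -, htv⟩ := exists_uniformizer P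
    exact ⟨⟨t₀, show P.1 t₀ ≤ 1 by rw [htv, ← exp_zero, exp_le_exp]; omega⟩, htv⟩
  obtain ⟨idx, hidx⟩ : ∃ idx : Place k' K' → ℕ, ∀ Q ∈ T, ∀ z : K, Q.1 (algebraMap K K' z) = P.1 z ^ idx Q := by
    have : ∀ Q ∈ T, ∃ e : ℕ, ∀ z : K, Q.1 (algebraMap K K' z) = P.1 z ^ e := fun Q hQ => hQ
    choose! idx hidx using this
    exact ⟨idx, hidx⟩
  have ht0 : (t : K) ≠ 0 := fun e => by rw [e, map_zero] at ht; exact exp_ne_zero ht.symm
  -- an element divisible by `t`
  have hdiv : ∀ w, (∀ Q ∈ T, Q.1 (π w) ≤ exp (-(idx Q : ℤ))) → ∃ w', w = (1 ⊗ₜ t) * w' := fun w hw => by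
    obtain ⟨w', hw'⟩ := hns' ((algebraMap K K' (t : K))⁻¹ * π w) fun Q hQ => by
      rw [map_mul, map_inv₀, hidx Q hQ, ht, ← exp_nsmul, ← exp_neg, nsmul_eq_mul]
      refine (mul_le_mul' le_rfl (hw Q hQ)).trans ?_
      rw [← exp_add, ← exp_zero, exp_le_exp]
      omega
    refine ⟨w', hπinj ?_⟩
    rw [map_mul, hw', hπ, prodO_tmul, map_one, one_mul, ← mul_assoc,
      mul_inv_cancel₀ ((_root_.map_ne_zero _).2 ht0), one_mul]
  -- every ramification index is at least the inseparable degree
  have hge : ∀ Q ∈ T, finrank Fs (IsLocalRing.ResidueField P.O) ≤ idx Q := by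
    intro Q hQ
    letI : Algebra Fs k' := ((σ Q).comp Fs.val).toRingHom.toAlgebra
    haveI : IsScalarTower k Fs k' := IsScalarTower.of_algebraMap_eq fun c =>
      (((σ Q).comp Fs.val).commutes c).symm
    let g : P.O →ₐ[k] k' ⊗[Fs] IsLocalRing.ResidueField P.O :=
      { ((Algebra.TensorProduct.includeRight :
          IsLocalRing.ResidueField P.O →ₐ[Fs] k' ⊗[Fs] IsLocalRing.ResidueField P.O).toRingHom.comp
            (IsLocalRing.residue P.O)) with
        commutes' := fun c => by
          show (1 : k') ⊗ₜ[Fs] (algebraMap k (IsLocalRing.ResidueField P.O) c) = _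
          rw [IsScalarTower.algebraMap_apply k Fs (IsLocalRing.ResidueField P.O) c, Algebra.algebraMap_eq_smul_one (A := IsLocalRing.ResidueField P.O),
            ← TensorProduct.smul_tmul, ← Algebra.algebraMap_eq_smul_one, ← IsScalarTower.algebraMap_apply k Fs k']
          rfl }
    let Φ : k' ⊗[k] P.O →ₐ[k'] k' ⊗[Fs] IsLocalRing.ResidueField P.O :=
      Algebra.TensorProduct.lift (Algebra.ofId k' _) g fun _ _ => Commute.all _ _
    have hΦ : ∀ (a : k') (c : P.O), Φ (a ⊗ₜ c) = a ⊗ₜ[Fs] IsLocalRing.residue P.O c := fun a c => by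
      simp [Φ, g, Algebra.TensorProduct.tmul_mul_tmul]
    have hΦsurj : Function.Surjective Φ := fun m => by
      induction m using TensorProduct.induction_on with
      | zero => exact ⟨0, map_zero _⟩
      | tmul a c =>
        obtain ⟨c', rfl⟩ := IsLocalRing.residue_surjective c
        exact ⟨a ⊗ₜ c', hΦ a c'⟩
      | add a b ha hb =>
        obtain ⟨a', rfl⟩ := ha
        obtain ⟨b', rfl⟩ := hb
        exact ⟨a' + b', map_add _ _ _⟩
    have hΦt : Φ (1 ⊗ₜ t) = 0 := by
      rw [hΦ, (residue_eq_zero_iff_lt P t).2 (by rw [ht, ← exp_zero, exp_lt_exp]; omega), TensorProduct.tmul_zero]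
    -- separating elements
    have hsep : ∀ Q' ∈ T, Q' ≠ Q → ∃ (u : k' ⊗[k] P.O) (a : k'), a ≠ 0 ∧ Φ u = algebraMap k' _ a ∧ Q'.1 (π u) < 1 := by
      intro Q' hQ' hne
      obtain ⟨η, hη⟩ : ∃ η : Fs, σ Q (η : IsLocalRing.ResidueField P.O) ≠ σ Q' (η : IsLocalRing.ResidueField P.O) := by
        by_contra hh
        push Not at hh
        exact hne (hsinj hQ' hQ (AlgHom.ext fun z => (hh z).symm))
      obtain ⟨θ, hθ⟩ := IsLocalRing.residue_surjective (η : IsLocalRing.ResidueField P.O)
      refine ⟨1 ⊗ₜ θ - σ Q' (η : IsLocalRing.ResidueField P.O) ⊗ₜ 1,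
        σ Q (η : IsLocalRing.ResidueField P.O) - σ Q' (η : IsLocalRing.ResidueField P.O), sub_ne_zero.2 hη, ?_, ?_⟩
      · rw [map_sub, hΦ, hΦ, hθ, map_one, map_sub, Algebra.TensorProduct.algebraMap_apply,
          Algebra.TensorProduct.algebraMap_apply, Algebra.algebraMap_self_apply, Algebra.algebraMap_self_apply]
        congr 1
        rw [show (η : IsLocalRing.ResidueField P.O) = η • (1 : IsLocalRing.ResidueField P.O) from
          (Algebra.algebraMap_eq_smul_one η), ← TensorProduct.smul_tmul,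
          ← Algebra.algebraMap_eq_smul_one η]
        rw [← Algebra.algebraMap_eq_smul_one η]
        rfl
      · rw [hlt_iff Q' hQ']
        simp [χ, r, hθ]
    choose! us av hav0 hΦu hus using hsep
    set N := (hTfin.toFinset.sup idx) with hN
    set U := ∏ Q' ∈ hTfin.toFinset.erase Q, us Q' ^ N with hU
    have hΦU : IsUnit (Φ U) := by
      rw [hU, map_prod, IsUnit.prod_iff]
      intro Q' hQ'
      rw [Finset.mem_erase, Set.Finite.mem_toFinset] at hQ'
      rw [map_pow, hΦu Q' hQ'.2 hQ'.1]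
      exact ((isUnit_iff_ne_zero.2 (hav0 Q' hQ'.2 hQ'.1)).map _).pow _
    have hkill : ∀ w, Q.1 (π w) ≤ exp (-(idx Q : ℤ)) → Φ w = 0 := fun w hw => by
      obtain ⟨w', hw'⟩ := hdiv (w * U) fun R hR => by
        rcases eq_or_ne R Q with rfl | hne
        · rw [map_mul, map_mul]
          exact (mul_le_of_le_one_right zero_le (hπR U R hR)).trans hw
        · rw [map_mul, map_mul]
          refine (mul_le_of_le_one_left zero_le (hπR w R hR)).trans ?_
          rw [hU, map_prod, map_prod, ← Finset.mul_prod_erase _ _ (Finset.mem_erase.2 ⟨hne, hTfin.mem_toFinset.2 hR⟩)]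
          refine (mul_le_of_le_one_right zero_le (Finset.prod_le_one' fun R' _ => ?_)).trans ?_
          · rw [map_pow, map_pow]
            exact pow_le_one' (hπR _ R hR) _
          · rw [map_pow, map_pow]
            refine (pow_le_pow_left' (le_exp_neg_one_of_lt_one (hus R hR hne)) N).trans ?_
            rw [← exp_nsmul, exp_le_exp, nsmul_eq_mul]
            have h1 : idx R ≤ N := Finset.le_sup (hTfin.mem_toFinset.2 hR)
            omega
      have := congrArg Φ hw'
      rw [map_mul, map_mul, hΦt, zero_mul] at this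
      exact hΦU.mul_left_eq_zero.1 this
    obtain ⟨w1, hw1⟩ := approx (fun R => if R = Q then 1 else 0) (fun R => by split_ifs <;> simp)
    have hw1Q : Q.1 (π w1) = exp (-1 : ℤ) := by rw [hw1 Q hQ, if_pos rfl]
    obtain ⟨ev, hevs⟩ := exists_value hK' Q (hsplit Q hQ)
    have hexp : ∀ (j : ℕ) (w : k' ⊗[k] P.O), ∃ a : Fin j → k',
        Q.1 (π (w - ∑ i : Fin j, a i • w1 ^ (i : ℕ))) ≤ exp (-(j : ℤ)) := by
      intro j
      induction j with
      | zero => exact fun w => ⟨Fin.elim0, by simpa using hπR w Q hQ⟩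
      | succ j ih =>
        intro w
        obtain ⟨a, ha⟩ := ih w
        set r0 := w - ∑ i : Fin j, a i • w1 ^ (i : ℕ) with hr0
        have hq0 : π w1 ^ j ≠ 0 := pow_ne_zero _ fun e => by rw [e, map_zero] at hw1Q; exact exp_ne_zero hw1Q.symm
        have hq : Q.1 (π r0 / π w1 ^ j) ≤ 1 := by
          rw [map_div₀, map_pow, hw1Q, ← exp_nsmul, nsmul_eq_mul, div_le_one₀ exp_pos]
          simpa using ha
        obtain ⟨c0, hc0⟩ : ∃ c0, Q.1 (π r0 / π w1 ^ j - algebraMap k' K' c0) < 1 := ⟨_, hevs ⟨_, hq⟩⟩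
        refine ⟨Fin.snoc a c0, ?_⟩
        rw [Fin.sum_univ_castSucc]
        simp only [Fin.snoc_castSucc, Fin.snoc_last, Fin.val_castSucc, Fin.val_last]
        rw [← sub_sub, ← hr0, map_sub]
        have hsm : π (c0 • w1 ^ j) = algebraMap k' K' c0 * π w1 ^ j := by
          rw [Algebra.smul_def, map_mul, map_pow]
          congr 1
          rw [Algebra.TensorProduct.algebraMap_apply, hπ, prodO_tmul, OneMemClass.coe_one, map_one, mul_one]
          rfl
        rw [hsm, show π r0 - algebraMap k' K' c0 * π w1 ^ j =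
          (π r0 / π w1 ^ j - algebraMap k' K' c0) * π w1 ^ j by
            rw [sub_mul, div_mul_cancel₀ _ hq0], map_mul, map_pow, hw1Q]
        refine (mul_le_mul' (le_exp_neg_one_of_lt_one hc0) le_rfl).trans ?_
        rw [← exp_nsmul, ← exp_add, exp_le_exp, nsmul_eq_mul]
        push_cast
        omega
    have htop : (⊤ : Submodule k' (k' ⊗[Fs] IsLocalRing.ResidueField P.O)) ≤
        Submodule.span k' (Set.range fun i : Fin (idx Q) => Φ w1 ^ (i : ℕ)) := fun m _ => by
      obtain ⟨w, rfl⟩ := hΦsurj m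
      obtain ⟨a, ha⟩ := hexp (idx Q) w
      have := hkill _ ha
      rw [map_sub, sub_eq_zero] at this
      rw [this, map_sum]
      refine Submodule.sum_mem _ fun i _ => ?_
      rw [map_smul, map_pow]
      exact Submodule.smul_mem _ _ (Submodule.subset_span ⟨i, rfl⟩)
    have hfin : finrank k' (k' ⊗[Fs] IsLocalRing.ResidueField P.O) = finrank Fs (IsLocalRing.ResidueField P.O) :=
      Module.finrank_baseChange
    rw [← hfin, ← finrank_top, ← top_le_iff.1 htop]
    exact (finrank_range_le_card _).trans (Fintype.card_fin _).le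
  -- embeddings into an algebraic closure
  let kb := AlgebraicClosure k'
  let ι₀ : k' →ₐ[k] kb := IsScalarTower.toAlgHom k k' kb
  let Ψ : T → (IsLocalRing.ResidueField P.O →ₐ[k] kb) := fun Q => ι₀.comp (σ Q)
  have hΨinj : Function.Injective Ψ := fun Q Q' e => Subtype.ext (hσinj Q.2 Q'.2 (AlgHom.ext fun z =>
    ι₀.toRingHom.injective (AlgHom.congr_fun e z)))
  have hΨsurj : Function.Surjective Ψ := by
    intro τ
    let χτ : k' ⊗[k] P.O →ₐ[k] kb := Algebra.TensorProduct.productMap ι₀ (τ.comp r)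
    by_contra hh
    push Not at hh
    have hw : ∀ Q ∈ T, ∃ w, χ Q w = 0 ∧ χτ w ≠ 0 := by
      intro Q hQ
      by_contra hall
      push Not at hall
      refine hh ⟨Q, hQ⟩ (AlgHom.ext fun z => ?_)
      obtain ⟨c, rfl⟩ := IsLocalRing.residue_surjective z
      have h1 := hall (1 ⊗ₜ c - σ Q (IsLocalRing.residue P.O c) ⊗ₜ 1) (by simp [χ, r])
      rw [map_sub, sub_eq_zero] at h1
      simp [χτ, r] at h1
      exact h1.symm
    choose! ws hws hwsτ using hw
    set N := (hTfin.toFinset.sup idx) with hN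
    obtain ⟨w', hw'⟩ := hdiv (∏ Q ∈ hTfin.toFinset, ws Q ^ N) fun R hR => by
      rw [map_prod, map_prod, ← Finset.mul_prod_erase _ _ (hTfin.mem_toFinset.2 hR)]
      refine (mul_le_of_le_one_right zero_le (Finset.prod_le_one' fun R' _ => ?_)).trans ?_
      · rw [map_pow, map_pow]
        exact pow_le_one' (hπR _ R hR) _
      · rw [map_pow, map_pow]
        refine (pow_le_pow_left' (le_exp_neg_one_of_lt_one ((hlt_iff R hR _).2 (hws R hR))) N).trans ?_
        rw [← exp_nsmul, exp_le_exp, nsmul_eq_mul]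
        have h1 : idx R ≤ N := Finset.le_sup (hTfin.mem_toFinset.2 hR)
        omega
    have h2 := congrArg χτ hw'
    rw [map_prod, map_mul, show χτ ((1 : k') ⊗ₜ[k] t) = 0 by
      simp [χτ, r, (residue_eq_zero_iff_lt P t).2 (by rw [ht, ← exp_zero, exp_lt_exp]; omega)], zero_mul] at h2
    obtain ⟨Q, hQ, hQ0⟩ := Finset.prod_eq_zero_iff.1 h2
    rw [map_pow] at hQ0
    exact hwsτ Q (hTfin.mem_toFinset.1 hQ) (eq_zero_of_pow_eq_zero hQ0)
  have hcard : T.ncard = Field.finSepDegree k (IsLocalRing.ResidueField P.O) := by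
    rw [Field.finSepDegree_eq_of_isAlgClosed k (IsLocalRing.ResidueField P.O) kb, ← Nat.card_coe_set_eq]
    exact Nat.card_congr (Equiv.ofBijective Ψ ⟨hΨinj, hΨsurj⟩)
  refine ⟨hTfin, hcard, ?_⟩
  -- the sum of the indices
  have hidx' : ∀ R ∈ overs hK.1 P, underIdx hK.1 R = idx (pl.symm R) := fun R hR => by
    have hQ : pl.symm R ∈ T := (hTiff _).2 (by rwa [Equiv.apply_symm_apply])
    exact (under_eq hK.1 (show IsOverWith R P (idx (pl.symm R)) from hidx _ hQ)).2
  have hsum : ∑ Q ∈ hTfin.toFinset, idx Q = P.deg := by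
    have h1 := sum_idx_mul_deg (K' := K') hK.1 P (overs hK.1 P) (fun Q => mem_overs hK.1)
    have hrk : finrank K K' = finrank k k' := by
      obtain ⟨B, -⟩ := exists_constBasis (Module.finBasis k k') h
      rw [finrank_eq_card_basis B, Fintype.card_fin]
    rw [hrk] at h1
    have h2 : ∀ R ∈ overs hK.1 P, underIdx hK.1 R * R.deg = finrank k k' * idx (pl.symm R) := fun R hR => by
      have hQ : pl.symm R ∈ T := (hTiff _).2 (by rwa [Equiv.apply_symm_apply])
      rw [hidx' R hR]
      conv_lhs => rw [show R = pl (pl.symm R) from (pl.apply_symm_apply R).symm]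
      rw [hpl, TraceResLib.deg_placesEquiv k, ← hpl, Equiv.symm_apply_apply, hsplit _ hQ, mul_one, mul_comm]
    rw [Finset.sum_congr rfl h2, ← Finset.mul_sum] at h1
    have h3 := Nat.eq_of_mul_eq_mul_left finrank_pos h1
    rw [← h3]
    exact (Finset.sum_nbij' (fun R => pl.symm R) (fun Q => pl Q)
      (fun R hR => hTfin.mem_toFinset.2 ((hTiff _).2 (by rwa [Equiv.apply_symm_apply])))
      (fun Q hQ => (hTiff Q).1 (hTfin.mem_toFinset.1 hQ)) (fun R _ => pl.apply_symm_apply R)
      (fun Q _ => pl.symm_apply_apply Q) fun R _ => rfl).symm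
  have hs : Field.finSepDegree k (IsLocalRing.ResidueField P.O) = finrank k Fs := by
    rw [Field.finSepDegree_eq]
    rfl
  have hmul : finrank k Fs * finrank Fs (IsLocalRing.ResidueField P.O) = P.deg :=
    (Module.finrank_mul_finrank k Fs (IsLocalRing.ResidueField P.O)).trans (finrank_residue P)
  have hc : hTfin.toFinset.card = finrank k Fs := by rw [← Set.ncard_eq_toFinset_card T hTfin, hcard, hs]
  intro Q hQ
  have heq : ∀ Q' ∈ hTfin.toFinset, idx Q' = finrank Fs (IsLocalRing.ResidueField P.O) := by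
    have h1 : ∑ Q' ∈ hTfin.toFinset, finrank Fs (IsLocalRing.ResidueField P.O) = ∑ Q' ∈ hTfin.toFinset, idx Q' := by
      rw [Finset.sum_const, smul_eq_mul, hc, hmul, hsum]
    exact fun Q' hQ' => (((Finset.sum_eq_sum_iff_of_le fun R hR => hge R (hTfin.mem_toFinset.1 hR)).1 h1) Q' hQ').symm
  intro z
  rw [hidx Q hQ z, heq Q (hTfin.mem_toFinset.2 hQ)]

end Groth.Agent.GeomFFLib
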