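import Groth.Agent.GeomFFLib.Conductor
import Mathlib.RingTheory.TensorProduct.Free
import Mathlib.RingTheory.Adjoin.Basic

/-! Nonsingularity in a tower of constant extensions. -/

set_option autoImplicit false
universe u v

open TensorProduct FunFld Module WithZero Groth.Agent Groth.Agent.FFLib

namespace Groth.Agent.GeomFFLib

attribute [local instance 10000] Algebra.toModule

variable {k' k'' : Type u} {K' K'' : Type v} [Field k'] [Field k''] [Field K'] [Field K'']
  [Algebra k' k''] [Algebra k' K'] [Algebra K' K''] [Algebra k'' K''] [Algebra k' K'']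
  [IsScalarTower k' k'' K''] [IsScalarTower k' K' K''] {ι : Type*} (c : Basis ι k' k'')
  (h2 : Function.Bijective (Algebra.TensorProduct.productMap
      (IsScalarTower.toAlgHom k' k'' K'') (IsScalarTower.toAlgHom k' K' K'')))

include h2 in
theorem exists_constBasis : ∃ B : Basis ι K' K'', ∀ i, B i = algebraMap k'' K'' (c i) := by
  let T : K' ⊗[k'] k'' →ₐ[K'] K'' := Algebra.TensorProduct.lift (Algebra.ofId K' K'')
    (IsScalarTower.toAlgHom k' k'' K'') fun _ _ => Commute.all _ _
  have hT : (T : K' ⊗[k'] k'' → K'') = (Algebra.TensorProduct.productMap (IsScalarTower.toAlgHom k' k'' K'')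
      (IsScalarTower.toAlgHom k' K' K'')) ∘ (Algebra.TensorProduct.comm k' K' k'') := by
    funext z
    induction z using TensorProduct.induction_on with
    | zero => simp
    | tmul a b => simp [T, mul_comm]
    | add a b ha hb => simp only [Function.comp_apply, map_add] at ha hb ⊢; rw [ha, hb]
  have hbij : Function.Bijective T := hT ▸ h2.comp (Algebra.TensorProduct.comm k' K' k'').bijective
  refine ⟨(Algebra.TensorProduct.basis K' c).map (LinearEquiv.ofBijective T.toLinearMap hbij), fun i => ?_⟩
  simp [T, Algebra.TensorProduct.basis_apply]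

variable {c} {B : Basis ι K' K''} (hB : ∀ i, B i = algebraMap k'' K'' (c i))

include hB in
theorem repr_const (a : k'') (i : ι) : B.repr (algebraMap k'' K'' a) i = algebraMap k' K' (c.repr a i) := by
  classical
  have e : algebraMap k'' K'' a = Finsupp.linearCombination K' B ((c.repr a).mapRange (algebraMap k' K') (map_zero _)) := by
    conv_lhs => rw [← c.linearCombination_repr a]
    rw [Finsupp.linearCombination_apply, Finsupp.linearCombination_apply, Finsupp.sum_mapRange_index, map_finsuppSum]
    swap
    · exact fun _ => zero_smul _ _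
    refine Finsupp.sum_congr fun j _ => ?_
    rw [Algebra.smul_def, Algebra.smul_def, map_mul, hB, ← IsScalarTower.algebraMap_apply, ← IsScalarTower.algebraMap_apply]
  rw [e, Basis.repr_linearCombination, Finsupp.mapRange_apply]

include hB in
/-- Coordinates of `A[k'']`. -/
theorem repr_mem_of_adjoin (A : Subring K') (A'' : Subring K'') (hA : ∀ a ∈ A'', ∃ a' ∈ A, algebraMap K' K'' a' = a)
    (M : Subring K') (hM : A ≤ M) (hMk : ∀ a : k', algebraMap k' K' a ∈ M) {y : K''}
    (hy : y ∈ Algebra.adjoin A'' (Set.range (algebraMap k'' K''))) (i : ι) : B.repr y i ∈ M := by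
  have hy' : y ∈ Submodule.span A'' (Set.range (algebraMap k'' K'')) := by
    have h1 : y ∈ Subalgebra.toSubmodule (Algebra.adjoin A'' (Set.range (algebraMap k'' K''))) := hy
    rw [Algebra.adjoin_eq_span, show Set.range (algebraMap k'' K'') = ((MonoidHom.mrange (algebraMap k'' K'').toMonoidHom : Submonoid K'') : Set K'') from rfl,
      Submonoid.closure_eq] at h1
    exact h1
  clear hy
  induction hy' using Submodule.span_induction with
  | mem z hz => obtain ⟨a, rfl⟩ := hz; rw [repr_const hB]; exact hMk _
  | zero => simp
  | add a b _ _ ha hb => rw [map_add, Finsupp.add_apply]; exact add_mem ha hb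
  | smul a z _ hz =>
    obtain ⟨a', ha', e⟩ := hA a a.2
    rw [show a • z = a' • z by rw [Algebra.smul_def a', e]; rfl, map_smul, Finsupp.smul_apply, smul_eq_mul]
    exact mul_mem (hM ha') hz

end Groth.Agent.GeomFFLib
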